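import Mathlib
import Cfsg.Agent.Lib.Blocks.Star.Action

/-!
# Groups of nine automorphisms of an elementary abelian group of order sixteen

Such a group stabilises a decomposition into two Klein four-groups, is transitive on the
non-trivial elements of both and regular on the nine others.
-/

set_option autoImplicit false
set_option linter.style.haveILetI false
set_option linter.unusedSectionVars false

namespace Cfsg.Agent.Blocks.EightNine

variable {A : Type*} [Group A] [Finite A]

/-- A line of the decomposition. -/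
structure Line (R : Subgroup (MulAut A)) (V : Subgroup A) : Prop where
  card : Nat.card V = 4
  inv : ∀ β ∈ R, ∀ v ∈ V, β v ∈ V
  fixes : ∀ β ∈ R, ∀ v ∈ V, v ≠ 1 → β v = v → ∀ u ∈ V, β u = u
  stab : ∀ v ∈ V, v ≠ 1 → Nat.card (MulAction.stabilizer R v) = 3
  sep : ∀ β ∈ R, ∀ v ∈ V, v ≠ 1 → β v = v → ∀ u, u ∉ V → β u = u → β = 1

/-- The decomposition. -/
structure Split (R : Subgroup (MulAut A)) (V W : Subgroup A) : Prop where
  left : Line R V
  right : Line R W
  decomp : ∀ u : A, ∃ v ∈ V, ∃ w ∈ W, u = v * w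
  disj : ∀ u : A, u ∈ V → u ∈ W → u = 1
  free : ∀ u : A, u ∉ V → u ∉ W → ∀ β ∈ R, β u = u → β = 1

theorem Split.symm {R : Subgroup (MulAut A)} {V W : Subgroup A} (h : Split R V W)
    (hcomm : ∀ x y : A, x * y = y * x) : Split R W V where
  left := h.right
  right := h.left
  decomp u := by
    obtain ⟨v, hv, w, hw, e⟩ := h.decomp u
    exact ⟨w, hw, v, hv, e.trans (hcomm v w)⟩
  disj u hu hu' := h.disj u hu' hu
  free u hu hu' := h.free u hu' hu

variable {R : Subgroup (MulAut A)}

theorem pow_nine (hR : Nat.card R = 9) {β : MulAut A} (hβ : β ∈ R) : β ^ 9 = 1 := by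
  have h := congrArg Subtype.val (pow_card_eq_one' (x := (⟨β, hβ⟩ : R)))
  rwa [hR] at h

theorem comm_of_nine (hR : Nat.card R = 9) {β γ : MulAut A} (hβ : β ∈ R) (hγ : γ ∈ R) :
    β * γ = γ * β := by
  haveI : Fact (Nat.Prime 3) := ⟨Nat.prime_three⟩
  haveI := IsPGroup.isMulCommutative_of_card_eq_prime_sq (p := 3) (G := R) (by rw [hR]; rfl)
  exact congrArg Subtype.val (mul_comm' (⟨β, hβ⟩ : R) ⟨γ, hγ⟩)

/-- The subgroup fixed by an automorphism. -/
def fixedBy (β : MulAut A) : Subgroup A := MonoidHom.eqLocus β.toMonoidHom (MonoidHom.id A)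

theorem mem_fixedBy {β : MulAut A} {u : A} : u ∈ fixedBy β ↔ β u = u := Iff.rfl

theorem card_fixedBy (hA : Nat.card A = 16) (hR : Nat.card R = 9) {β : MulAut A} (hβ : β ∈ R)
    (h1 : β ≠ 1) : Nat.card (fixedBy β) = 1 ∨ Nat.card (fixedBy β) = 4 := by
  haveI : Fact (Nat.Prime 3) := ⟨Nat.prime_three⟩
  have hZ : IsPGroup 3 (Subgroup.zpowers β) :=
    (IsPGroup.of_card (n := 2) (by rw [hR]; rfl) : IsPGroup 3 R).to_le (Subgroup.zpowers_le.2 hβ)
  have h := hZ.card_modEq_card_fixedPoints A
  have hfix : Nat.card (MulAction.fixedPoints (Subgroup.zpowers β) A) = Nat.card (fixedBy β) := by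
    refine Nat.card_congr (Equiv.subtypeEquivRight fun u => ?_)
    rw [MulAction.mem_fixedPoints, mem_fixedBy]
    refine ⟨fun h => h ⟨β, Subgroup.mem_zpowers β⟩, fun h γ => ?_⟩
    exact MulAction.mem_stabilizer_iff.1 (Subgroup.zpowers_le.2
      (show β ∈ MulAction.stabilizer (MulAut A) u from h) γ.2)
  rw [hA, hfix] at h
  have hd := Subgroup.card_subgroup_dvd_card (fixedBy β)
  rw [hA] at hd
  have hne : Nat.card (fixedBy β) ≠ 16 := fun h16 => h1 (MulEquiv.ext fun u =>
    mem_fixedBy.1 ((Subgroup.card_eq_iff_eq_top _).1 (h16.trans hA.symm) ▸ Subgroup.mem_top u))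
  have hle := Nat.le_of_dvd (by norm_num) hd
  unfold Nat.ModEq at h
  interval_cases Nat.card (fixedBy β) <;> omega

/-- An element of a group of nine automorphisms fixing a point of an invariant four-group fixes
it all. -/
theorem fix_four (hel : ∀ x : A, x ^ 2 = 1) (hR : Nat.card R = 9) {V : Subgroup A}
    (hV : Nat.card V = 4) {β : MulAut A} (hβ : β ∈ R) (hinv : ∀ u ∈ V, β u ∈ V) {v : A}
    (hv : v ∈ V) (hv1 : v ≠ 1) (hfix : β v = v) {u : A} (hu : u ∈ V) : β u = u := by
  classical
  haveI := Fintype.ofFinite A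
  by_cases hu1 : u = 1
  · rw [hu1, map_one]
  by_cases huv : u = v
  · rw [huv, hfix]
  have hvv : v * v = 1 := by rw [← pow_two]; exact hel v
  have hset : ({1, v, u, v * u} : Finset A) = Finset.univ.filter (· ∈ V) := by
    refine Finset.eq_of_subset_of_card_le ?_ ?_
    · intro x hx
      simp only [Finset.mem_insert, Finset.mem_singleton] at hx
      refine Finset.mem_filter.2 ⟨Finset.mem_univ _, ?_⟩
      rcases hx with rfl | rfl | rfl | rfl
      exacts [one_mem _, hv, hu, mul_mem hv hu]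
    · rw [← Fintype.card_subtype, ← Nat.card_eq_fintype_card, hV]
      rw [Finset.card_insert_of_notMem, Finset.card_insert_of_notMem,
        Finset.card_insert_of_notMem, Finset.card_singleton]
      · simp only [Finset.mem_singleton]
        exact fun h => hv1 (right_eq_mul.1 h)
      · simp only [Finset.mem_insert, Finset.mem_singleton, not_or]
        exact ⟨fun h => huv h.symm, fun h => hu1 (left_eq_mul.1 h)⟩
      · simp only [Finset.mem_insert, Finset.mem_singleton, not_or]
        refine ⟨fun h => hv1 h.symm, fun h => hu1 h.symm, fun h => huv ?_⟩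
        have h' := congrArg (v * ·) h
        simp only [mul_one, ← mul_assoc, hvv, one_mul] at h'
        exact h'.symm
  have h : β u ∈ ({1, v, u, v * u} : Finset A) := by
    rw [hset]; exact Finset.mem_filter.2 ⟨Finset.mem_univ _, hinv u hu⟩
  simp only [Finset.mem_insert, Finset.mem_singleton] at h
  rcases h with h | h | h | h
  · exact absurd (β.injective (h.trans (map_one β).symm)) hu1
  · exact absurd (β.injective (h.trans hfix.symm)) huv
  · exact h
  · have h2 : (β * β) u = u := by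
      rw [MulAut.mul_apply, h, map_mul, hfix, h, ← mul_assoc, hvv, one_mul]
    have h10 : ∀ n : ℕ, ((β * β) ^ n) u = u := fun n => by
      induction n with
      | zero => simp
      | succ n ih => rw [pow_succ, MulAut.mul_apply, h2, ih]
    have := h10 5
    rwa [← pow_two, ← pow_mul, show 2 * 5 = 9 + 1 from rfl, pow_succ, pow_nine hR hβ, one_mul]
      at this

/-- Outside an invariant four-group, and outside the identity, some point is fixed. -/
theorem exists_fixed_outside (hA : Nat.card A = 16) (hR : Nat.card R = 9) {V : Subgroup A}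
    (hV : Nat.card V = 1 ∨ Nat.card V = 4) (hinv : ∀ β ∈ R, ∀ v ∈ V, β v ∈ V) :
    ∃ β ∈ R, β ≠ 1 ∧ ∃ u, u ∉ V ∧ β u = u := by
  classical
  haveI := Fintype.ofFinite A
  by_contra hcon
  have hout : ∀ β ∈ R, ∀ u, u ∉ V → β u ∉ V := fun β hβ u hu h => hu (by
    have := hinv β⁻¹ (inv_mem hβ) _ h
    rwa [show β⁻¹ (β u) = u from β.symm_apply_apply u] at this)
  letI : MulAction R {u : A // u ∉ V} :=
    { smul := fun β u => ⟨(β : MulAut A) u.1, hout β β.2 u.1 u.2⟩
      one_smul := fun _ => rfl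
      mul_smul := fun _ _ _ => rfl }
  have hd := Blocks.Star.dvd_card_of_stabilizer (X := {u : A // u ∉ V}) (⊥ : Subgroup R)
    fun u β hβ => Subgroup.mem_bot.2 (by
      by_contra hne
      exact hcon ⟨β, β.2, fun h => hne (Subtype.ext h), u.1, u.2,
        congrArg Subtype.val (MulAction.mem_stabilizer_iff.1 hβ)⟩)
  rw [Subgroup.index_bot, hR, Nat.card_eq_fintype_card, Fintype.card_subtype_compl,
    ← Nat.card_eq_fintype_card, hA, ← Nat.card_eq_fintype_card,
    show Nat.card {x // x ∈ V} = Nat.card V from rfl] at hd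
  rcases hV with h | h <;> rw [h] at hd <;> norm_num at hd

/-- The fixed points of an element with a fixed point form a line. -/
theorem line_fixedBy (hA : Nat.card A = 16) (hel : ∀ x : A, x ^ 2 = 1) (hR : Nat.card R = 9)
    {s : MulAut A} (hs : s ∈ R) (hs1 : s ≠ 1) {v₀ : A} (hv₀ : v₀ ≠ 1) (hsv : s v₀ = v₀) :
    Line R (fixedBy s) := by
  classical
  haveI := Fintype.ofFinite A
  set V := fixedBy s with hVdef
  have hcard : Nat.card V = 4 := (card_fixedBy hA hR hs hs1).resolve_left fun h =>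
    hv₀ (Subgroup.mem_bot.1 (Subgroup.card_eq_one.1 h ▸ (mem_fixedBy.2 hsv : v₀ ∈ V)))
  have hinv : ∀ β ∈ R, ∀ v ∈ V, β v ∈ V := fun β hβ v hv => by
    rw [hVdef, mem_fixedBy, ← MulAut.mul_apply, comm_of_nine hR hs hβ, MulAut.mul_apply,
      mem_fixedBy.1 hv]
  have hfix : ∀ β ∈ R, ∀ v ∈ V, v ≠ 1 → β v = v → ∀ u ∈ V, β u = u :=
    fun β hβ v hv hv1 h u hu => fix_four hel hR hcard hβ (hinv β hβ) hv hv1 h hu
  have hsep : ∀ β ∈ R, ∀ v ∈ V, v ≠ 1 → β v = v → ∀ u, u ∉ V → β u = u → β = 1 := by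
    intro β hβ v hv hv1 hβv u hu hβu
    by_contra hne
    have hle : V ≤ fixedBy β := fun x hx => hfix β hβ v hv hv1 hβv x hx
    have hc : Nat.card (fixedBy β) ≤ Nat.card V := by
      rw [hcard]; rcases card_fixedBy hA hR hβ hne with h | h <;> omega
    rw [Subgroup.eq_of_le_of_card_ge hle hc] at hu
    exact hu hβu
  refine ⟨hcard, hinv, hfix, fun v hv hv1 => ?_, hsep⟩
  set K := MulAction.stabilizer R v with hK
  have hKs : (⟨s, hs⟩ : R) ∈ K := mem_fixedBy.1 hv
  have h1 : Nat.card K ≠ 1 := fun h => by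
    have := Subgroup.card_eq_one.1 h
    rw [this, Subgroup.mem_bot] at hKs
    exact hs1 (congrArg Subtype.val hKs)
  have h9 : Nat.card K ≠ 9 := fun h => by
    obtain ⟨β, hβ, hne, u, hu, hβu⟩ := exists_fixed_outside hA hR (.inr hcard) hinv
    refine hne (hsep β hβ v hv hv1 ?_ u hu hβu)
    have : (⟨β, hβ⟩ : R) ∈ K := by
      rw [(Subgroup.card_eq_iff_eq_top K).1 (h.trans hR.symm)]; exact Subgroup.mem_top _
    exact this
  have hd := Subgroup.card_subgroup_dvd_card K
  rw [hR] at hd
  have hle := Nat.le_of_dvd (by norm_num) hd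
  interval_cases hKc : Nat.card K <;> omega

/-- The decomposition exists. -/
theorem exists_split (hA : Nat.card A = 16) (hel : ∀ x : A, x ^ 2 = 1) (hR : Nat.card R = 9) :
    ∃ V W : Subgroup A, Split R V W := by
  classical
  haveI := Fintype.ofFinite A
  obtain ⟨s, hs, hs1, v₀, hv₀, hsv⟩ := exists_fixed_outside (V := (⊥ : Subgroup A)) hA hR
    (.inl Subgroup.card_bot) fun β _ v hv => by
      rw [Subgroup.mem_bot] at hv ⊢
      rw [hv, map_one]
  rw [Subgroup.mem_bot] at hv₀
  have hV := line_fixedBy hA hel hR hs hs1 hv₀ hsv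
  obtain ⟨t, ht, ht1, w₀, hw₀, htw⟩ := exists_fixed_outside hA hR (.inr hV.card) hV.inv
  have hw1 : w₀ ≠ 1 := fun h => hw₀ (h ▸ one_mem _)
  have hW := line_fixedBy hA hel hR ht ht1 hw1 htw
  set V := fixedBy s
  set W := fixedBy t
  have hdisj : ∀ u : A, u ∈ V → u ∈ W → u = 1 := fun u hu hu' => by
    by_contra h
    exact ht1 (hV.sep t ht u hu h hu' w₀ hw₀ htw)
  let f : V × W → A := fun z => (z.1 : A) * z.2
  have hinj : Function.Injective f := by
    rintro ⟨a, b⟩ ⟨a', b'⟩ h
    have e : (a' : A)⁻¹ * a = (b' : A) * (b : A)⁻¹ := by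
      rw [eq_mul_inv_iff_mul_eq, mul_assoc, show (a : A) * b = a' * b' from h,
        inv_mul_cancel_left]
    have h1 := hdisj _ (mul_mem (inv_mem a'.2) a.2) (e ▸ mul_mem b'.2 (inv_mem b.2))
    have ha : a' = a := Subtype.ext (inv_mul_eq_one.1 h1)
    rw [h1] at e
    have hb : b' = b := Subtype.ext (mul_inv_eq_one.1 e.symm)
    rw [ha, hb]
  have hsurj : Function.Surjective f :=
    ((Fintype.bijective_iff_injective_and_card f).2 ⟨hinj, by
      rw [← Nat.card_eq_fintype_card, ← Nat.card_eq_fintype_card, Nat.card_prod, hV.card, hW.card,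
        hA]⟩).2
  refine ⟨V, W, hV, hW, fun u => ?_, hdisj, fun u huV huW β hβ hβu => ?_⟩
  · obtain ⟨z, hz⟩ := hsurj u
    exact ⟨z.1, z.1.2, z.2, z.2.2, hz.symm⟩
  · obtain ⟨z, rfl⟩ := hsurj u
    have hv1 : (z.1 : A) ≠ 1 := fun h => huW (by simp [f, h])
    have hw1 : (z.2 : A) ≠ 1 := fun h => huV (by simp [f, h])
    have h := hinj (a₁ := (⟨β z.1, hV.inv β hβ _ z.1.2⟩, ⟨β z.2, hW.inv β hβ _ z.2.2⟩)) (a₂ := z)
      ((map_mul β (z.1 : A) (z.2 : A)).symm.trans hβu)
    exact hV.sep β hβ _ z.1.2 hv1 (congrArg Subtype.val (congrArg Prod.fst h)) _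
      (fun h' => hw1 (hdisj _ h' z.2.2)) (congrArg Subtype.val (congrArg Prod.snd h))

end Cfsg.Agent.Blocks.EightNine
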