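import Mathlib

/-!
# An integer matrix lemma for blocks with defect group of order sixteen

Two commuting symmetric integer matrices `Y, Z` with `Y² = 4Y`, `Z² = 4Z`, trace sixteen, fixing the
column `d` up to the factor four and with `YZ = d dᵗ` force `d` to consist of sixteen units.
-/

set_option autoImplicit false

namespace Cfsg.Agent.Blocks.EightNine

variable {ι : Type*} [Fintype ι]

/-- A scaled projection fixing `d`. -/
structure Proj (d : ι → ℤ) (Y : ι → ι → ℤ) : Prop where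
  symm : ∀ i j, Y i j = Y j i
  sq : ∀ i j, ∑ m, Y i m * Y j m = 4 * Y i j
  col : ∀ i, ∑ m, Y i m * d m = 4 * d i
  trace : ∑ i, Y i i = 16

/-- Non-zero integers with few squares to spare. -/
theorem square_excess (d : ι → ℤ) (hd : ∀ i, d i ≠ 0) (h : ∑ i, d i ^ 2 < Fintype.card ι + 8) :
    (∀ i, d i ^ 2 = 1 ∨ d i ^ 2 = 4) ∧
      ∑ i, d i ^ 2 = Fintype.card ι + 3 * (Finset.univ.filter fun i => d i ^ 2 = 4).card := by
  classical
  have h1 : ∀ i, 1 ≤ d i ^ 2 := fun i => by
    have := sq_pos_iff.2 (hd i); omega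
  have hsum : ∑ i, (d i ^ 2 - 1) < 8 := by
    rw [Finset.sum_sub_distrib, Finset.sum_const, Finset.card_univ]
    simp only [nsmul_eq_mul, mul_one]
    omega
  have hcase : ∀ i, d i ^ 2 = 1 ∨ d i ^ 2 = 4 := fun i => by
    have hi : d i ^ 2 - 1 < 8 := lt_of_le_of_lt
      (Finset.single_le_sum (f := fun j => d j ^ 2 - 1) (fun j _ => by have := h1 j; omega)
        (Finset.mem_univ i)) hsum
    have h2 : d i ≤ 2 := by nlinarith
    have h3 : -2 ≤ d i := by nlinarith
    have := hd i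
    interval_cases d i <;> simp_all
  refine ⟨hcase, ?_⟩
  rw [Finset.sum_congr rfl (g := fun i => 1 + if d i ^ 2 = 4 then (3 : ℤ) else 0) fun i _ => ?_]
  · rw [Finset.sum_add_distrib, Finset.sum_ite, Finset.sum_const_zero, add_zero]
    simp [mul_comm]
  · rcases hcase i with h | h <;> simp [h]

namespace Proj

variable {d : ι → ℤ} {Y Z : ι → ι → ℤ}

theorem one_le_diag (hY : Proj d Y) (hd : ∀ i, d i ≠ 0) (i : ι) : 1 ≤ Y i i := by
  by_contra h
  have h0 : ∑ m, Y i m ^ 2 ≤ 0 := by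
    simp only [pow_two, hY.sq i i]; omega
  have hz : ∀ m, Y i m = 0 := fun m => pow_eq_zero_iff two_ne_zero |>.1
    ((Finset.sum_eq_zero_iff_of_nonneg fun m _ => sq_nonneg (Y i m)).1
      (le_antisymm h0 (Finset.sum_nonneg fun m _ => sq_nonneg (Y i m))) m (Finset.mem_univ m))
  have hc := hY.col i
  simp only [hz, zero_mul, Finset.sum_const_zero] at hc
  exact hd i (by omega)

/-- Parity of a row on the even entries of `d`. -/
theorem even_row (hY : Proj d Y) (hcase : ∀ i, d i ^ 2 = 1 ∨ d i ^ 2 = 4) (j : ι) :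
    (2 : ℤ) ∣ ∑ m ∈ Finset.univ.filter (fun m => d m ^ 2 = 4), Y j m ^ 2 := by
  have hterm : ∀ m ∈ Finset.univ, (2 : ℤ) ∣
      Y j m ^ 2 - Y j m * d m - (if d m ^ 2 = 4 then Y j m ^ 2 else 0) := by
    intro m _
    rcases hcase m with h | h
    · rw [if_neg (by omega), sub_zero]
      have hd : d m = 1 ∨ d m = -1 := sq_eq_one_iff.1 h
      rcases Int.even_or_odd (Y j m) with ⟨c, hc⟩ | ⟨c, hc⟩ <;> rcases hd with hd | hd <;>
        rw [hc, hd]
      exacts [⟨2 * c ^ 2 - c, by ring⟩, ⟨2 * c ^ 2 + c, by ring⟩, ⟨2 * c ^ 2 + c, by ring⟩,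
        ⟨2 * c ^ 2 + 3 * c + 1, by ring⟩]
    · rw [if_pos h]
      have hd : d m = 2 ∨ d m = -2 := sq_eq_sq_iff_eq_or_eq_neg.1 (h.trans (by norm_num))
      rcases hd with hd | hd <;> rw [hd]
      exacts [⟨-Y j m, by ring⟩, ⟨Y j m, by ring⟩]
  have h := Finset.dvd_sum hterm
  rw [Finset.sum_sub_distrib, Finset.sum_sub_distrib, hY.col j, ← Finset.sum_filter] at h
  simp only [pow_two (Y j _), hY.sq j j] at h
  have h4 : (2 : ℤ) ∣ 4 * Y j j - 4 * d j := ⟨2 * Y j j - 2 * d j, by ring⟩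
  have := dvd_sub h4 h
  simp only [sub_sub_cancel, ← pow_two] at this
  exact this

/-- The diagonal at an entry two of `d` is at least two. -/
theorem two_le_diag (hY : Proj d Y) (hd2 : ∑ m, d m ^ 2 = 16) {i j : ι} (hi : d i ^ 2 = 4)
    (hj : d j ^ 2 = 1) : 2 ≤ Y i i := by
  by_contra h
  have hsum : ∑ m, (4 * Y i m - d i * d m) ^ 2 = 16 * (4 * Y i i - 4) := by
    have e : ∀ m, (4 * Y i m - d i * d m) ^ 2 =
        16 * (Y i m * Y i m) - 8 * d i * (Y i m * d m) + d i ^ 2 * d m ^ 2 := fun m => by ring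
    simp only [e, Finset.sum_add_distrib, Finset.sum_sub_distrib, ← Finset.mul_sum, hY.sq i i,
      hY.col i, hd2]
    linear_combination (-16 : ℤ) * hi
  have hz := (Finset.sum_eq_zero_iff_of_nonneg fun m _ => sq_nonneg (4 * Y i m - d i * d m)).1
    (le_antisymm (by rw [hsum]; omega) (Finset.sum_nonneg fun m _ => sq_nonneg _)) j
    (Finset.mem_univ j)
  have h4 : 4 * Y i j = d i * d j := by
    linarith [pow_eq_zero_iff two_ne_zero |>.1 hz]
  have : (4 * Y i j) ^ 2 = 4 := by rw [h4, mul_pow, hi, hj, mul_one]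
  have h5 : 4 * Y i j ^ 2 = 1 := by linarith [mul_pow (4 : ℤ) (Y i j) 2]
  omega

end Proj

variable {d : ι → ℤ} {Y Z : ι → ι → ℤ}

/-- The row sum of squares of the complementary matrix. -/
theorem rest_row [DecidableEq ι] (hY : Proj d Y) (hZ : Proj d Z) (hd2 : ∑ m, d m ^ 2 = 16)
    (hYZ : ∀ i, ∑ m, Y i m * Z i m = d i ^ 2) (i : ι) :
    ∑ m, ((if i = m then (16 : ℤ) else 0) + d i * d m - 4 * Y i m - 4 * Z i m) ^ 2 =
      16 * (16 + d i ^ 2 - 4 * Y i i - 4 * Z i i) := by
  have e : ∀ m, ((if i = m then (16 : ℤ) else 0) + d i * d m - 4 * Y i m - 4 * Z i m) ^ 2 =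
      (if i = m then 256 + 32 * (d i * d m - 4 * Y i m - 4 * Z i m) else 0) +
      d i ^ 2 * d m ^ 2 + 16 * (Y i m * Y i m) + 16 * (Z i m * Z i m)
        - 8 * d i * (Y i m * d m) - 8 * d i * (Z i m * d m) + 32 * (Y i m * Z i m) := fun m => by
    split <;> ring
  simp only [e, Finset.sum_add_distrib, Finset.sum_sub_distrib, ← Finset.mul_sum, hY.sq i i,
    hZ.sq i i, hY.col i, hZ.col i, hd2, hYZ i, Finset.sum_ite_eq, Finset.mem_univ, if_true]
  ring

/-- The diagonals at an entry two of `d` are two. -/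
theorem diag_two (hY : Proj d Y) (hZ : Proj d Z) (hd2 : ∑ m, d m ^ 2 = 16)
    (hYZ : ∀ i, ∑ m, Y i m * Z i m = d i ^ 2) {i j : ι} (hi : d i ^ 2 = 4) (hj : d j ^ 2 = 1) :
    Y i i = 2 ∧ Z i i = 2 := by
  classical
  have h1 := hY.two_le_diag hd2 hi hj
  have h2 := hZ.two_le_diag hd2 hi hj
  suffices Y i i + Z i i < 5 by omega
  by_contra h
  have hsum := rest_row hY hZ hd2 hYZ i
  rw [hi] at hsum
  have hz := (Finset.sum_eq_zero_iff_of_nonneg fun m _ => sq_nonneg
      ((if i = m then (16 : ℤ) else 0) + d i * d m - 4 * Y i m - 4 * Z i m)).1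
    (le_antisymm (by rw [hsum]; omega) (Finset.sum_nonneg fun m _ => sq_nonneg _)) j
    (Finset.mem_univ j)
  have hij : i ≠ j := fun e => by subst e; omega
  rw [if_neg hij, zero_add] at hz
  have h4 : d i * d j = 4 * (Y i j + Z i j) := by linarith [pow_eq_zero_iff two_ne_zero |>.1 hz]
  have : (4 * (Y i j + Z i j)) ^ 2 = 4 := by rw [← h4, mul_pow, hi, hj, mul_one]
  have h5 : 4 * (Y i j + Z i j) ^ 2 = 1 := by linarith [mul_pow (4 : ℤ) (Y i j + Z i j) 2]
  omega

/-- One entry two is impossible. -/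
theorem not_one_even (hY : Proj d Y) (hd : ∀ m, d m ≠ 0) (hcase : ∀ m, d m ^ 2 = 1 ∨ d m ^ 2 = 4)
    (hk : Fintype.card ι = 13) {i : ι} (hE : ∀ m, d m ^ 2 = 4 ↔ m = i) (hy : Y i i = 2) :
    False := by
  classical
  obtain ⟨ε, hε, hdi⟩ : ∃ ε : ℤ, (ε = 1 ∨ ε = -1) ∧ d i = 2 * ε := by
    rcases sq_eq_sq_iff_eq_or_eq_neg.1 (((hE i).2 rfl).trans (by norm_num : (4 : ℤ) = 2 ^ 2)) with
      h | h
    exacts [⟨1, .inl rfl, by rw [h]; rfl⟩, ⟨-1, .inr rfl, by rw [h]; rfl⟩]
  have hfil : (Finset.univ.filter fun m => d m ^ 2 = 4) = {i} := by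
    ext m; simp [hE m]
  set S := Finset.univ.erase i
  have hsq := Finset.add_sum_erase Finset.univ (fun m => Y i m * Y i m) (Finset.mem_univ i)
  have hcol := Finset.add_sum_erase Finset.univ (fun m => Y i m * d m) (Finset.mem_univ i)
  have htr := Finset.add_sum_erase Finset.univ (fun m => Y m m) (Finset.mem_univ i)
  simp only [hY.sq i i, hY.col i, hY.trace, hy, hdi] at hsq hcol htr
  have hterm : ∀ m ∈ S, 4 * ε * (Y i m * d m) ≤ Y i m * Y i m + 4 * (Y m m - 1) := by
    intro m hm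
    have hmi := Finset.ne_of_mem_erase hm
    have hd1 : d m = 1 ∨ d m = -1 :=
      sq_eq_one_iff.1 ((hcase m).resolve_right fun h => hmi ((hE m).1 h))
    have h1 := hY.one_le_diag hd m
    rcases eq_or_lt_of_le h1 with h | h
    · have h2 := hY.even_row hcase m
      rw [hfil, Finset.sum_singleton] at h2
      have h3 : Y m i * Y m i + Y m m * Y m m ≤ 4 := by
        have h6 := hY.sq m m
        rw [← h] at h6
        rw [← Finset.sum_pair (f := fun x => Y m x * Y m x) (Ne.symm hmi)]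
        refine (Finset.sum_le_univ_sum_of_nonneg (f := fun x => Y m x * Y m x) fun x =>
          mul_self_nonneg _).trans (le_of_eq ?_)
        rw [h6]; norm_num
      obtain ⟨c, hc⟩ : 2 ∣ Y m i := Int.prime_two.dvd_of_dvd_pow h2
      have hc0 : c = 0 := by
        rw [hc, ← h] at h3
        have : c * c ≤ 0 := by nlinarith
        exact mul_self_eq_zero.1 (le_antisymm this (mul_self_nonneg c))
      rw [hY.symm i m, hc, hc0, ← h]
      norm_num
    · rcases hε with rfl | rfl <;> rcases hd1 with e | e <;> rw [e] <;>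
        nlinarith [sq_nonneg (Y i m - 2), sq_nonneg (Y i m + 2)]
  have h := Finset.sum_le_sum hterm
  rw [← Finset.mul_sum, Finset.sum_add_distrib, ← Finset.mul_sum, Finset.sum_sub_distrib,
    Finset.sum_const, Finset.card_erase_of_mem (Finset.mem_univ i), Finset.card_univ, hk] at h
  have e1 : ∑ m ∈ S, Y i m * d m = 4 * ε := by simp only [S]; linarith
  rw [e1, show 4 * ε * (4 * ε) = 16 by rcases hε with rfl | rfl <;> norm_num] at h
  simp only [S, nsmul_eq_mul, mul_one] at h
  push_cast at h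
  omega

/-- With two entries two the entry between them is determined. -/
theorem two_even (hY : Proj d Y) (hd : ∀ m, d m ≠ 0) (hcase : ∀ m, d m ^ 2 = 1 ∨ d m ^ 2 = 4)
    (hk : Fintype.card ι = 10) {i i' : ι} (hne : i ≠ i')
    (hE : ∀ m, d m ^ 2 = 4 ↔ m = i ∨ m = i') (hy : Y i i = 2) (hy' : Y i' i' = 2) :
    2 * Y i i' = d i * d i' := by
  classical
  set S := (Finset.univ.erase i).erase i'
  have hi' : i' ∈ Finset.univ.erase i := Finset.mem_erase.2 ⟨hne.symm, Finset.mem_univ _⟩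
  have split : ∀ f : ι → ℤ, f i + (f i' + ∑ m ∈ S, f m) = ∑ m, f m := fun f => by
    rw [Finset.add_sum_erase _ _ hi', Finset.add_sum_erase _ _ (Finset.mem_univ i)]
  have hcS : S.card = 8 := by
    rw [Finset.card_erase_of_mem hi', Finset.card_erase_of_mem (Finset.mem_univ i),
      Finset.card_univ, hk]
  have hS : ∀ m ∈ S, d m = 1 ∨ d m = -1 := fun m hm => by
    simp only [S, Finset.mem_erase] at hm
    exact sq_eq_one_iff.1 ((hcase m).resolve_right fun h => ((hE m).1 h).elim hm.2.1 hm.1)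
  have hfil : (Finset.univ.filter fun m => d m ^ 2 = 4) = {i, i'} := by
    ext m; simp [hE m]
  have hsgn : ∀ a, a = i ∨ a = i' → ∃ ε : ℤ, (ε = 1 ∨ ε = -1) ∧ d a = 2 * ε := fun a ha => by
    rcases sq_eq_sq_iff_eq_or_eq_neg.1 (((hE a).2 ha).trans (by norm_num : (4 : ℤ) = 2 ^ 2)) with
      h | h
    exacts [⟨1, .inl rfl, by rw [h]; rfl⟩, ⟨-1, .inr rfl, by rw [h]; rfl⟩]
  obtain ⟨ε, hε, hdi⟩ := hsgn i (.inl rfl)
  obtain ⟨ε', hε', hdi'⟩ := hsgn i' (.inr rfl)
  set z := Y i i' with hz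
  have sq1 := (split fun m => Y i m * Y i m).trans (hY.sq i i)
  have sq2 := (split fun m => Y i' m * Y i' m).trans (hY.sq i' i')
  have cross := (split fun m => Y i m * Y i' m).trans (hY.sq i i')
  have col1 := (split fun m => Y i m * d m).trans (hY.col i)
  have col2 := (split fun m => Y i' m * d m).trans (hY.col i')
  have tr := (split fun m => Y m m).trans hY.trace
  simp only [hy, hy', hY.symm i' i, ← hz, hdi, hdi'] at sq1 sq2 cross col1 col2 tr
  have h2 := hY.even_row hcase i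
  rw [hfil, Finset.sum_pair hne, hy, ← hz] at h2
  obtain ⟨c, hc⟩ : 2 ∣ z := Int.prime_two.dvd_of_dvd_pow
    ((Int.dvd_add_right ⟨2, by norm_num⟩).1 h2)
  have hs0 : 0 ≤ ∑ m ∈ S, Y i m * Y i m := Finset.sum_nonneg fun m _ => mul_self_nonneg _
  have hc1 : c ≤ 1 := by nlinarith
  have hc2 : -1 ≤ c := by nlinarith
  rw [hc] at sq1 sq2 cross col1 col2 ⊢
  rcases (show c = 0 ∨ c = 1 ∨ c = -1 by omega) with rfl | hc'
  · exfalso
    have unit : ∀ (a : ι) (η : ℤ), (η = 1 ∨ η = -1) → ∑ m ∈ S, Y a m * Y a m = 4 →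
        ∑ m ∈ S, Y a m * d m = 4 * η → ∀ m ∈ S, Y a m = 0 ∨ Y a m = η * d m := by
      intro a η hη h1 h2 m hm
      have hnn : ∀ m ∈ S, 0 ≤ Y a m * Y a m - η * (Y a m * d m) := fun m hm => by
        have hx : 0 ≤ Y a m * Y a m - Y a m ∧ 0 ≤ Y a m * Y a m + Y a m := by
          rcases le_or_gt (Y a m) 0 with h | h <;> constructor <;> nlinarith
        rcases hη with rfl | rfl <;> rcases hS m hm with e | e <;> rw [e] <;> linarith [hx.1, hx.2]
      have h0 : ∑ m ∈ S, (Y a m * Y a m - η * (Y a m * d m)) = 0 := by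
        rw [Finset.sum_sub_distrib, ← Finset.mul_sum, h1, h2]
        rcases hη with rfl | rfl <;> norm_num
      have := (Finset.sum_eq_zero_iff_of_nonneg hnn).1 h0 m hm
      have e : Y a m * (Y a m - η * d m) = 0 := by linarith
      rcases mul_eq_zero.1 e with h | h
      exacts [.inl h, .inr (by linarith)]
    have u1 := unit i ε hε (by linarith) (by linarith)
    have u2 := unit i' ε' hε' (by linarith) (by linarith)
    have hpp : ∀ m ∈ S, 0 ≤ ε * ε' * (Y i m * Y i' m) := fun m hm => by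
      rcases u1 m hm with a | a <;> rcases u2 m hm with b | b <;> rw [a, b] <;> try simp
      rcases hε with rfl | rfl <;> rcases hε' with rfl | rfl <;>
        rcases hS m hm with e | e <;> rw [e] <;> norm_num
    have hp0 : ∑ m ∈ S, ε * ε' * (Y i m * Y i' m) = 0 := by
      rw [← Finset.mul_sum, show ∑ m ∈ S, Y i m * Y i' m = 0 by linarith, mul_zero]
    have hdisj : ∀ m ∈ S, Y i m * Y i' m = 0 := fun m hm => by
      have := (Finset.sum_eq_zero_iff_of_nonneg hpp).1 hp0 m hm
      rcases hε with rfl | rfl <;> rcases hε' with rfl | rfl <;> linarith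
    have hterm : ∀ m ∈ S, Y i m * Y i m + Y i' m * Y i' m ≤ Y m m - 1 := fun m hm => by
      have hb : Y i m * Y i m + Y i' m * Y i' m ≤ 1 := by
        have d1 : d m * d m = 1 := by rcases hS m hm with e | e <;> rw [e] <;> norm_num
        have bound : ∀ x η : ℤ, (η = 1 ∨ η = -1) → (x = 0 ∨ x = η * d m) → x * x ≤ 1 := by
          rintro x η hη (rfl | rfl)
          · norm_num
          · rcases hη with rfl | rfl <;> linarith
        have b1 := bound _ _ hε (u1 m hm)
        have b2 := bound _ _ hε' (u2 m hm)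
        rcases mul_eq_zero.1 (hdisj m hm) with a | a <;> rw [a, mul_zero] <;> linarith
      have h1 := hY.one_le_diag hd m
      rcases eq_or_lt_of_le h1 with h | h
      · have h2 := hY.even_row hcase m
        rw [hfil, Finset.sum_pair hne, hY.symm m i, hY.symm m i', pow_two, pow_two] at h2
        have h0 : 0 ≤ Y i m * Y i m + Y i' m * Y i' m :=
          add_nonneg (mul_self_nonneg _) (mul_self_nonneg _)
        omega
      · omega
    have h := Finset.sum_le_sum hterm
    rw [Finset.sum_add_distrib, Finset.sum_sub_distrib, Finset.sum_const, hcS] at h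
    simp only [nsmul_eq_mul, mul_one] at h
    push_cast at h
    omega
  · have h0 : ∑ m ∈ S, Y i m * Y i m = 0 := by
      rcases hc' with rfl | rfl <;> linarith
    have hz0 : ∀ m ∈ S, Y i m = 0 := fun m hm => mul_self_eq_zero.1
      ((Finset.sum_eq_zero_iff_of_nonneg fun m _ => mul_self_nonneg (Y i m)).1 h0 m hm)
    rw [Finset.sum_eq_zero fun m hm => by rw [hz0 m hm, zero_mul]] at col1
    rcases hc' with rfl | rfl <;> rcases hε with rfl | rfl <;> rcases hε' with rfl | rfl <;>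
      rw [hdi, hdi'] <;> linarith

/-- The column consists of sixteen units. -/
theorem card_eq_sixteen (hd : ∀ m, d m ≠ 0) (hd2 : ∑ m, d m ^ 2 = 16) (hk : 9 ≤ Fintype.card ι)
    (hY : Proj d Y) (hZ : Proj d Z) (hYZ : ∀ i, ∑ m, Y i m * Z i m = d i ^ 2) :
    Fintype.card ι = 16 := by
  classical
  obtain ⟨hcase, hsum⟩ := square_excess d hd (by rw [hd2]; omega)
  rw [hd2] at hsum
  set E := Finset.univ.filter fun m => d m ^ 2 = 4
  have hEk : E.card ≤ 2 := by omega
  obtain ⟨j, hj⟩ : ∃ j, d j ^ 2 = 1 := by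
    by_contra h
    have : E = Finset.univ := Finset.filter_true_of_mem fun m _ =>
      (hcase m).resolve_left fun h' => h ⟨m, h'⟩
    rw [this, Finset.card_univ] at hEk
    omega
  have hmem : ∀ m, m ∈ E ↔ d m ^ 2 = 4 := fun m => by simp [E]
  interval_cases hc : E.card
  · omega
  · exfalso
    obtain ⟨i, hi⟩ := Finset.card_eq_one.1 hc
    have hE : ∀ m, d m ^ 2 = 4 ↔ m = i := fun m => by rw [← hmem, hi, Finset.mem_singleton]
    exact not_one_even hY hd hcase (by omega) hE (diag_two hY hZ hd2 hYZ ((hE i).2 rfl) hj).1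
  · exfalso
    obtain ⟨i, i', hne, hi⟩ := Finset.card_eq_two.1 hc
    have hE : ∀ m, d m ^ 2 = 4 ↔ m = i ∨ m = i' := fun m => by
      rw [← hmem, hi, Finset.mem_insert, Finset.mem_singleton]
    have hii := (hE i).2 (.inl rfl)
    obtain ⟨hy, hz⟩ := diag_two hY hZ hd2 hYZ hii hj
    obtain ⟨hy', hz'⟩ := diag_two hY hZ hd2 hYZ ((hE i').2 (.inr rfl)) hj
    have hk10 : Fintype.card ι = 10 := by omega
    have eY := two_even hY hd hcase hk10 hne hE hy hy'
    have eZ := two_even hZ hd hcase hk10 hne hE hz hz'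
    have hrow := rest_row hY hZ hd2 hYZ i
    rw [hii, hy, hz] at hrow
    have hle := Finset.single_le_sum (f := fun m =>
      ((if i = m then (16 : ℤ) else 0) + d i * d m - 4 * Y i m - 4 * Z i m) ^ 2)
      (fun m _ => sq_nonneg _) (Finset.mem_univ i')
    simp only [if_neg hne] at hle
    rw [hrow, show (0 : ℤ) + d i * d i' - 4 * Y i i' - 4 * Z i i' = -3 * (d i * d i') by linarith,
      mul_pow, mul_pow, hii, (hE i').2 (.inr rfl)] at hle
    norm_num at hle

end Cfsg.Agent.Blocks.EightNine
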