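import Mathlib
import Cfsg.Agent.Lib.Blocks.Star.FreeLattice
import Cfsg.Agent.Lib.Blocks.Star.SingularSpan

/-!
# Matrices of stable functions on a block with abelian defect group

The products with stable functions give, on the characters of the block, matrices that multiply like
the functions; an orbit of free elements gives the rank one matrix of its column of coefficients.
-/

set_option autoImplicit false
set_option linter.style.haveILetI false
set_option linter.unusedSectionVars false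

namespace Cfsg.Agent.Blocks.EightNine

open Cfsg.Agent.Blocks Cfsg.Agent.Blocks.Star Cfsg.Agent.Characters Cfsg.Agent.BlockCharsA
open Cfsg.Agent.BlockCharsA.BrauerPairs Cfsg.Agent.BlockCharsA.PairConj
open Cfsg.Agent.BlockCharsA.PairLocal Cfsg.Agent.BlockCharsA.PairFusion
open MonoidAlgebra
open scoped ComplexConjugate

universe u

variable {G : Type u} [Group G] [Finite G] {p : ℕ} {M : Ideal Cfsg.AlgInt}
  {B : Set (Cfsg.IrrCharacter G)} {P : Subgroup G}
  {e : Set (Cfsg.IrrCharacter (Subgroup.centralizer (P : Set G)))}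

variable [Fintype G]

variable (e) in
/-- The matrix of a function on the top. -/
noncomputable def phi (hM : Cfsg.IsPModular p M) (η : P → ℂ) (f f' : G → ℂ) : ℂ :=
  Cfsg.classInner (star hM (wt p M e η) f) f'

theorem stable_mul {η η' : P → ℂ} (h : Stable p M e η) (h' : Stable p M e η') :
    Stable p M e (η * η') := fun u v x hv hε => by
  rw [Pi.mul_apply, Pi.mul_apply, h u v x hv hε, h' u v x hv hε]

theorem phi_eq (hM : Cfsg.IsPModular p M) (hmax : Cfsg.IsMaximalBrauerPair p M B P e) [Fintype P]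
    {η : P → ℂ} (hη : Stable p M e η) {χ ψ : Cfsg.IrrCharacter G} (hψ : ψ ∈ B) :
    phi e hM η (χ : G → ℂ) (ψ : G → ℂ) =
      ∑ v : P, η v * (pairing p (χ : G → ℂ) (ψ : G → ℂ) (v : G) (eps p M e v) /
        (nb p M e v : ℂ)) := by
  rw [phi]
  conv_lhs => arg 2; rw [← star_one hM hmax hψ]
  rw [classInner_star_top hM hmax hη (stable_const 1) (irr_isClassFunction χ)
    (irr_isClassFunction ψ)]
  simp

/-- A real function gives a symmetric matrix. -/
theorem phi_swap (hM : Cfsg.IsPModular p M) (hmax : Cfsg.IsMaximalBrauerPair p M B P e) [Fintype P]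
    {η : P → ℂ} (hη : Stable p M e η) (hre : ∀ v, conj (η v) = η v)
    {χ ψ : Cfsg.IrrCharacter G} (hχ : χ ∈ B) (hψ : ψ ∈ B) :
    phi e hM η (ψ : G → ℂ) (χ : G → ℂ) = conj (phi e hM η (χ : G → ℂ) (ψ : G → ℂ)) := by
  rw [phi_eq hM hmax hη hχ, phi]
  conv_rhs => arg 2; arg 2; rw [← star_one hM hmax hψ]
  rw [← classInner_conj_symm, classInner_star_top hM hmax (stable_const 1) hη
    (irr_isClassFunction ψ) (irr_isClassFunction χ)]
  simp [hre]

/-- The matrices multiply like the functions. -/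
theorem phi_mul (hM : Cfsg.IsPModular p M) (hmax : Cfsg.IsMaximalBrauerPair p M B P e) [Fintype P]
    [Fintype (Cfsg.IrrCharacter G)] [DecidablePred (· ∈ B)]
    {η η' : P → ℂ} (hη : Stable p M e η) (hη' : Stable p M e η') (hre : ∀ v, conj (η' v) = η' v)
    {χ ψ : Cfsg.IrrCharacter G} (hψ : ψ ∈ B) :
    ∑ ρ ∈ Finset.univ.filter (· ∈ B),
      phi e hM η (χ : G → ℂ) (ρ : G → ℂ) * phi e hM η' (ρ : G → ℂ) (ψ : G → ℂ) =
      phi e hM (η * η') (χ : G → ℂ) (ψ : G → ℂ) := by
  have h : Cfsg.classInner (star hM (wt p M e η) (χ : G → ℂ))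
      (star hM (wt p M e η') (ψ : G → ℂ)) = phi e hM (η * η') (χ : G → ℂ) (ψ : G → ℂ) := by
    rw [phi_eq hM hmax (stable_mul hη hη') hψ, classInner_star_top hM hmax hη hη'
      (irr_isClassFunction χ) (irr_isClassFunction ψ)]
    simp [hre]
  rw [← h, classInner_eq_sum _ (isClassFunction_star_stable hM hη (irr_isClassFunction χ))]
  refine Eq.trans (Finset.sum_congr rfl fun ρ hρ => ?_)
    (Finset.sum_subset (Finset.subset_univ _) fun ρ _ hρ => ?_)
  · rw [phi_swap hM hmax hη' hre hψ (Finset.mem_filter.1 hρ).2,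
      classInner_conj_symm (star hM (wt p M e η') (ψ : G → ℂ))]
    rfl
  · rw [classInner_star_outside hM hmax _ (irr_isClassFunction χ)
      (fun h' => hρ (Finset.mem_filter.2 ⟨Finset.mem_univ _, h'⟩)), zero_mul]

theorem phi_trace (hM : Cfsg.IsPModular p M) (hmax : Cfsg.IsMaximalBrauerPair p M B P e)
    (hab : ∀ x ∈ P, ∀ y ∈ P, x * y = y * x) [Fintype P]
    [Fintype (Cfsg.IrrCharacter G)] [DecidablePred (· ∈ B)] {η : P → ℂ} (hη : Stable p M e η) :
    ∑ χ ∈ Finset.univ.filter (· ∈ B), phi e hM η (χ : G → ℂ) (χ : G → ℂ) =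
      ∑ v : P, η v * ((lv p M e (Subgroup.zpowers (v : G)) : ℂ) /
        (Nat.card (orbS p M P e (v : G)) : ℂ)) := by
  rw [Finset.sum_congr rfl fun χ hχ => phi_eq hM hmax hη (Finset.mem_filter.1 hχ).2,
    Finset.sum_comm]
  exact Finset.sum_congr rfl fun v _ => by rw [← Finset.mul_sum, pairing_div_nb hM hmax hab]

theorem phi_int (hM : Cfsg.IsPModular p M) (hmax : Cfsg.IsMaximalBrauerPair p M B P e)
    {η : P → ℂ} (hgen : Cfsg.IsGeneralizedCharacter P η) (hη : Stable p M e η)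
    (χ ψ : Cfsg.IrrCharacter G) : ∃ n : ℤ, phi e hM η (χ : G → ℂ) (ψ : G → ℂ) = n :=
  classInner_gen_int (isGen_star hM (weightSys hM hmax hgen hη) (irr_isCharacter χ))
    (isGen_of_isCharacter (irr_isCharacter ψ))

theorem orbS_eq_of_mem {t v : G} (ht : t ∈ stab P e) :
    orbS p M P e (t * v * t⁻¹) = orbS p M P e v := by
  ext w
  constructor
  · rintro ⟨s, hs, rfl⟩
    exact ⟨s * t, mul_mem hs ht, by group⟩
  · rintro ⟨s, hs, rfl⟩
    exact ⟨s * t⁻¹, mul_mem hs (inv_mem ht), by group⟩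

theorem freeAt_conj {t v : G} (ht : t ∈ stab P e) (hv : FreeAt P e v) :
    FreeAt P e (t * v * t⁻¹) := by
  intro x hx hxC
  have h1 : t⁻¹ * x * t ∈ stab P e := mul_mem (mul_mem (inv_mem ht) hx) ht
  have hxw := (commute_of_mem_CU hxC).eq
  have h2 := hv _ h1 (mem_CU_of_commute (by
    show v * (t⁻¹ * x * t) = t⁻¹ * x * t * v
    calc v * (t⁻¹ * x * t) = t⁻¹ * (t * v * t⁻¹ * x) * t := by group
      _ = t⁻¹ * (x * (t * v * t⁻¹)) * t := by rw [hxw]
      _ = t⁻¹ * x * t * v := by group))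
  refine fun y hy => ?_
  have hy' : t⁻¹ * y * t ∈ P := by
    have := conj_mem_top (P := P) (e := e) (inv_mem ht) hy
    simpa using this
  have h3 : (t⁻¹ * y * t) * (t⁻¹ * x * t) = (t⁻¹ * x * t) * (t⁻¹ * y * t) := h2 _ hy'
  calc y * x = t * ((t⁻¹ * y * t) * (t⁻¹ * x * t)) * t⁻¹ := by group
    _ = x * y := by rw [h3]; group

open scoped Classical in
/-- The indicator of an orbit. -/
noncomputable def orbInd (p : ℕ) (M : Ideal Cfsg.AlgInt) {P : Subgroup G}
    (e : Set (Cfsg.IrrCharacter (Subgroup.centralizer (P : Set G)))) (v : P) : P → ℂ :=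
  fun w => if (w : G) ∈ orbS p M P e (v : G) then 1 else 0

theorem stable_orbInd (hM : Cfsg.IsPModular p M) (hmax : Cfsg.IsMaximalBrauerPair p M B P e)
    (hab : ∀ x ∈ P, ∀ y ∈ P, x * y = y * x) (v : P) : Stable p M e (orbInd p M e v) := by
  classical
  refine stable_of_inertial hM hmax hab fun t ht u w hw => ?_
  refine if_congr ⟨?_, ?_⟩ rfl rfl
  · rintro ⟨s, hs, hu⟩
    exact ⟨t * s, mul_mem ht hs, by rw [hw, hu]; group⟩
  · rintro ⟨s, hs, hw'⟩
    refine ⟨t⁻¹ * s, mul_mem (inv_mem ht) hs, ?_⟩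
    rw [show (u : G) = t⁻¹ * (w : G) * t by rw [hw]; group, hw']
    group

/-- An orbit of free elements gives the matrix of its column. -/
theorem phi_orbInd (hM : Cfsg.IsPModular p M) (hmax : Cfsg.IsMaximalBrauerPair p M B P e)
    (hab : ∀ x ∈ P, ∀ y ∈ P, x * y = y * x) [Fintype P]
    [Fintype (Cfsg.IrrCharacter G)] {v : P} (hv : FreeAt P e (v : G))
    {χ ψ : Cfsg.IrrCharacter G} (hψ : ψ ∈ B) :
    (Nat.card P : ℂ) * phi e hM (orbInd p M e v) (χ : G → ℂ) (ψ : G → ℂ) =
      coef p M e (χ : G → ℂ) (v : G) * conj (coef p M e (ψ : G → ℂ) (v : G)) := by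
  classical
  rw [phi_eq hM hmax (stable_orbInd hM hmax hab v) hψ, Finset.mul_sum]
  simp only [orbInd, ite_mul, one_mul, zero_mul, mul_ite, mul_zero]
  rw [← Finset.sum_filter]
  set c := coef p M e (χ : G → ℂ) (v : G) * conj (coef p M e (ψ : G → ℂ) (v : G))
  set r := Nat.card (orbS p M P e (v : G))
  have hterm : ∀ w ∈ Finset.univ.filter (fun w : P => (w : G) ∈ orbS p M P e (v : G)),
      (Nat.card P : ℂ) * (pairing p (χ : G → ℂ) (ψ : G → ℂ) (w : G) (eps p M e w) /
        (nb p M e w : ℂ)) = c / (r : ℂ) := by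
    intro w hw
    obtain ⟨t, ht, htw⟩ := (Finset.mem_filter.1 hw).2
    rw [pairing_eq_coef hM hmax hab (by rw [htw]; exact freeAt_conj ht hv) (irr_isClassFunction χ)
      (irr_isClassFunction ψ), coef_conj hM hmax hab ht htw hv (irr_isClassFunction χ),
      coef_conj hM hmax hab ht htw hv (irr_isClassFunction ψ), htw, orbS_eq_of_mem ht]
  rw [Finset.sum_congr rfl hterm, Finset.sum_const]
  have hr : (Finset.univ.filter (fun w : P => (w : G) ∈ orbS p M P e (v : G))).card = r := by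
    rw [← Fintype.card_subtype, ← Nat.card_eq_fintype_card]
    refine Nat.card_congr
      { toFun := fun w => ⟨(w.1 : G), w.2⟩
        invFun := fun g => ⟨⟨g.1, ?_⟩, g.2⟩
        left_inv := fun _ => rfl
        right_inv := fun _ => rfl }
    obtain ⟨t, ht, hg⟩ := g.2
    rw [hg]
    exact conj_mem_top ht v.2
  have hr0 : (r : ℂ) ≠ 0 := by
    haveI := (orbS_nonempty (p := p) (M := M) (P := P) (e := e) (v : G)).to_subtype
    exact Nat.cast_ne_zero.2 Nat.card_pos.ne'
  rw [hr, nsmul_eq_mul, mul_div_cancel₀ _ hr0]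

/-- The column at a free element has norm `|P|`. -/
theorem sum_coef_sq (hM : Cfsg.IsPModular p M) (hmax : Cfsg.IsMaximalBrauerPair p M B P e)
    (hab : ∀ x ∈ P, ∀ y ∈ P, x * y = y * x) [Fintype P]
    [Fintype (Cfsg.IrrCharacter G)] [DecidablePred (· ∈ B)] {v : P} (hv : FreeAt P e (v : G)) :
    ∑ χ ∈ Finset.univ.filter (· ∈ B),
      coef p M e (χ : G → ℂ) (v : G) * conj (coef p M e (χ : G → ℂ) (v : G)) =
      (Nat.card P : ℂ) := by
  classical
  obtain ⟨χ₀, hχ₀⟩ := block_nonempty hM hmax.1.2.1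
  have hst := stable_orbInd hM hmax hab v
  have hre : ∀ w, conj (orbInd p M e v w) = orbInd p M e v w := fun w => by
    unfold orbInd; split <;> simp
  have hmul : orbInd p M e v * orbInd p M e v = orbInd p M e v := funext fun w => by
    simp [orbInd]
  have h := phi_mul hM hmax hst hst hre (χ := χ₀) hχ₀
  rw [hmul] at h
  have h2 := congrArg (fun z => (Nat.card P : ℂ) * ((Nat.card P : ℂ) * z)) h
  simp only [phi_orbInd hM hmax hab hv hχ₀, Finset.mul_sum] at h2
  set c := coef p M e (χ₀ : G → ℂ) (v : G)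
  have hc : c * conj c ≠ 0 := mul_ne_zero (coef_ne_zero hM hmax hab hv hχ₀)
    (fun h' => coef_ne_zero hM hmax hab hv hχ₀ ((map_eq_zero _).1 h'))
  refine mul_right_cancel₀ hc ?_
  rw [← h2, Finset.sum_mul]
  refine Finset.sum_congr rfl fun ρ hρ => ?_
  have e1 := phi_orbInd hM hmax hab hv (χ := χ₀) (Finset.mem_filter.1 hρ).2
  have e2 := phi_orbInd hM hmax hab hv (χ := ρ) hχ₀
  calc _ = ((Nat.card P : ℂ) * phi e hM (orbInd p M e v) (χ₀ : G → ℂ) (ρ : G → ℂ)) *
        ((Nat.card P : ℂ) * phi e hM (orbInd p M e v) (ρ : G → ℂ) (χ₀ : G → ℂ)) := by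
        rw [e1, e2]; ring
    _ = _ := by ring

end Cfsg.Agent.Blocks.EightNine
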