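import Mathlib
import Cfsg.Agent.S4646
import Cfsg.Agent.BlockCharsA.PairPrincipal
import Cfsg.Agent.Lib.Blocks.Star.PrincipalValues
import Cfsg.Agent.Lib.Blocks.EightNine.Phi
import Cfsg.Agent.Lib.Blocks.EightNine.Matrix

/-!
# Principal blocks with inertial index three fixing a four-group in a group of order sixteen

Such a block has rank three.
-/

set_option autoImplicit false
set_option linter.style.haveILetI false
set_option linter.unusedSectionVars false

namespace Cfsg.Agent.Blocks.EightNine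

open Cfsg.Agent.Blocks Cfsg.Agent.Blocks.Star Cfsg.Agent.Characters Cfsg.Agent.BlockCharsA
open Cfsg.Agent.BlockCharsA.BrauerPairs Cfsg.Agent.BlockCharsA.PairConj
open Cfsg.Agent.BlockCharsA.PairLocal Cfsg.Agent.BlockCharsA.PairFusion
open Cfsg.Agent.BlockCharsA.PairPrincipal
open scoped ComplexConjugate

universe u

variable {G : Type u} [Group G] [Finite G] {p : ℕ} {M : Ideal Cfsg.AlgInt}
  {B : Set (Cfsg.IrrCharacter G)} {P : Subgroup G}
  {e : Set (Cfsg.IrrCharacter (Subgroup.centralizer (P : Set G)))}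

theorem stab_prin (hM : Cfsg.IsPModular p M) (Q : Subgroup G) :
    stab Q (prin M Q) = Subgroup.normalizer (Q : Set G) :=
  le_antisymm stab_le_normalizer fun _ hx => mem_stab.2 ⟨hx, stabilizes_prin hM hx⟩

/-- An element acting trivially centralises. -/
theorem mem_centralizer_of_inertAct {t : G} (ht : t ∈ stab P e)
    (h : inertAct P e ⟨t, ht⟩ = 1) : t ∈ Subgroup.centralizer (P : Set G) := by
  rw [Subgroup.mem_centralizer_iff]
  intro v hv
  have h1 : t * v * t⁻¹ = v := congrArg Subtype.val (DFunLike.congr_fun h (⟨v, hv⟩ : P))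
  conv_lhs => rw [← h1]
  group

theorem freeAt_of (v : P) (h : ∀ β ∈ inertR P e, β v = v → β = 1) : FreeAt P e (v : G) := by
  intro x hx hxC
  refine mem_centralizer_of_inertAct hx (h _ (inertAct_mem hx) (Subtype.ext ?_))
  show x * (v : G) * x⁻¹ = v
  rw [← (commute_of_mem_CU hxC).eq, mul_inv_cancel_right]

theorem stable_of_inertR (hM : Cfsg.IsPModular p M) (hmax : Cfsg.IsMaximalBrauerPair p M B P e)
    (hab : ∀ x ∈ P, ∀ y ∈ P, x * y = y * x) {η : P → ℂ}
    (hη : ∀ β ∈ inertR P e, ∀ v, η (β v) = η v) : Stable p M e η :=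
  stable_of_inertial hM hmax hab fun t ht u v htv => by
    rw [show v = inertAct P e ⟨t, ht⟩ u from Subtype.ext htv, hη _ (inertAct_mem ht)]

/-- Orbit and stabiliser. -/
theorem card_orbS_mul (v : P) :
    Nat.card (orbS p M P e (v : G)) * Nat.card (MulAction.stabilizer (inertR P e) v) =
      Nat.card (inertR P e) := by
  haveI : Finite P := inferInstance
  have h : Nat.card (orbS p M P e (v : G)) = Nat.card (MulAction.orbit (inertR P e) v) := by
    symm
    refine Nat.card_congr (Equiv.ofBijective (fun w => ⟨((w.1 : P) : G), ?_⟩) ⟨?_, ?_⟩)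
    · obtain ⟨β, hβ⟩ := w.2
      obtain ⟨t, ht, htv⟩ := inertR_exists β.2
      exact ⟨t, ht, by rw [← htv, show (β : MulAut P) v = w.1 from hβ]⟩
    · intro a b h
      exact Subtype.ext (Subtype.ext (congrArg (fun z => (z.1 : G)) h))
    · rintro ⟨g, t, ht, rfl⟩
      exact ⟨⟨inertAct P e ⟨t, ht⟩ v, ⟨⟨_, inertAct_mem ht⟩, rfl⟩⟩, rfl⟩
  rw [h, ← Nat.card_prod]
  exact Nat.card_congr (MulAction.orbitProdStabilizerEquivGroup (inertR P e) v)

theorem card_orbS_free (v : P) (h : ∀ β ∈ inertR P e, β v = v → β = 1) :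
    Nat.card (orbS p M P e (v : G)) = Nat.card (inertR P e) := by
  have h1 : MulAction.stabilizer (inertR P e) v = ⊥ := (Subgroup.eq_bot_iff_forall _).2 fun β hβ =>
    Subtype.ext (h β β.2 (MulAction.mem_stabilizer_iff.1 hβ))
  have h2 := card_orbS_mul (p := p) (M := M) (e := e) v
  rwa [h1, Subgroup.card_bot, mul_one] at h2

theorem card_orbS_fixed (v : P) (h : ∀ β ∈ inertR P e, β v = v) :
    Nat.card (orbS p M P e (v : G)) = 1 := by
  have h1 : MulAction.stabilizer (inertR P e) v = ⊤ := (Subgroup.eq_top_iff' _).2 fun β =>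
    MulAction.mem_stabilizer_iff.2 (h β β.2)
  have h2 := card_orbS_mul (p := p) (M := M) (e := e) v
  rw [h1, Subgroup.card_top] at h2
  exact Nat.eq_of_mul_eq_mul_right Nat.card_pos (h2.trans (one_mul _).symm)

theorem lv_free (hM : Cfsg.IsPModular p M) (hmax : Cfsg.IsMaximalBrauerPair p M B P e)
    (hab : ∀ x ∈ P, ∀ y ∈ P, x * y = y * x) {v : P} (hv : FreeAt P e (v : G)) :
    lv p M e (Subgroup.zpowers (v : G)) = 1 := by
  haveI := Fintype.ofFinite G
  obtain ⟨hle, -, -⟩ := gAt_spec hM hmax v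
  rw [lv_eq hM hmax hle]
  exact LocalNilpotent.blockRank_eq_one hM hmax hab hle hv

/-- Rank one means trivial inertial quotient. -/
theorem blockRank_ne_one (hM : Cfsg.IsPModular p M)
    (hmax : Cfsg.IsMaximalBrauerPair p M (Cfsg.principalBlock M G) P (prin M P))
    (hab : ∀ x ∈ P, ∀ y ∈ P, x * y = y * x) (hR : Nat.card (inertR P (prin M P)) ≠ 1) :
    Cfsg.blockRank p (Cfsg.principalBlock M G) ≠ 1 := by
  intro h
  haveI := fact_prime_of_pm hM
  have hn := (Cfsg.Agent.S4646.result p M hM).2 h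
  rw [PairNilpotent.nilpotent_iff_inertial hM hmax hab] at hn
  refine hR ?_
  rw [card_inertR, Subgroup.relIndex_eq_one]
  intro x hx
  exact hn x (mem_stab.1 hx).1 (mem_stab.1 hx).2

/-- The integral column at a free involution. -/
theorem exists_column [Fintype G] (hM : Cfsg.IsPModular p M)
    (hmax : Cfsg.IsMaximalBrauerPair p M B P e) (hab : ∀ x ∈ P, ∀ y ∈ P, x * y = y * x)
    [Fintype P] [Fintype (Cfsg.IrrCharacter G)] [DecidablePred (· ∈ B)] {v : P}
    (hv : FreeAt P e (v : G)) (h2 : (v : G) * v = 1) :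
    ∃ d : {χ : Cfsg.IrrCharacter G // χ ∈ B} → ℤ, (∀ χ, d χ ≠ 0) ∧
      (∑ χ, d χ ^ 2 = (Nat.card P : ℤ)) ∧
      ∀ χ, coef p M e ((χ.1 : Cfsg.IrrCharacter G) : G → ℂ) (v : G) = (d χ : ℂ) := by
  classical
  choose d hd using fun χ : {χ : Cfsg.IrrCharacter G // χ ∈ B} =>
    coef_exists_int (e := e) hM (irr_isCharacter χ.1) h2
  refine ⟨d, fun χ h => coef_ne_zero hM hmax hab hv χ.2 (by rw [hd, h, Int.cast_zero]), ?_, hd⟩
  apply Int.cast_injective (α := ℂ)
  push_cast
  rw [← sum_coef_sq hM hmax hab hv,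
    Finset.sum_subtype (Finset.univ.filter fun χ => χ ∈ B) (p := fun χ => χ ∈ B) (fun χ => by simp)]
  refine Finset.sum_congr rfl fun χ _ => ?_
  rw [hd, map_intCast, pow_two]

/-- The four elements of a Klein group. -/
theorem four_sum {V : Type*} [Group V] [Fintype V] [DecidableEq V] {N : Type*} [AddCommMonoid N]
    (hV : Nat.card V = 4) {a b : V} (ha : a ≠ 1) (hb : b ≠ 1) (hab : a ≠ b) (haa : a * a = 1)
    (g : V → N) : ∑ x, g x = g 1 + (g a + (g b + g (a * b))) := by
  have hab1 : a * b ≠ 1 := fun h => hab (mul_left_cancel (haa.trans h.symm))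
  have hne1 : a * b ≠ a := fun h => hb (mul_eq_left.1 h)
  have hne2 : a * b ≠ b := fun h => ha (mul_eq_right.1 h)
  have hu : (Finset.univ : Finset V) = {1, a, b, a * b} := by
    symm
    refine Finset.eq_univ_of_card _ ?_
    rw [← Nat.card_eq_fintype_card, hV]
    simp [ha.symm, hb.symm, hab1.symm, hab, hne1.symm, hne2.symm]
  rw [hu, Finset.sum_insert (by simp [ha.symm, hb.symm, hab1.symm]),
    Finset.sum_insert (by simp [hab, hne1.symm]), Finset.sum_insert (by simp [hne2.symm]),
    Finset.sum_singleton]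

/-- The rank is three. -/
theorem rank_eq_three {H : Type u} [Group H] [Finite H] (hM : Cfsg.IsPModular 2 M)
    (P : Sylow 2 H) (hP : Nat.card P = 16) (hel : ∀ x : P, x ^ 2 = 1)
    {V W : Subgroup P} (hV : Nat.card V = 4) (hW : Nat.card W = 4)
    (hdec : ∀ u : P, ∃ v ∈ V, ∃ w ∈ W, u = v * w) (hdisj : ∀ u : P, u ∈ V → u ∈ W → u = 1)
    (hR : Nat.card (inertR (P : Subgroup H) (prin M (P : Subgroup H))) = 3)
    (hfix : ∀ β ∈ inertR (P : Subgroup H) (prin M (P : Subgroup H)), ∀ v ∈ V, β v = v)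
    (hinv : ∀ β ∈ inertR (P : Subgroup H) (prin M (P : Subgroup H)), ∀ w ∈ W, β w ∈ W)
    (hfree : ∀ β ∈ inertR (P : Subgroup H) (prin M (P : Subgroup H)), ∀ u : P, u ∉ V →
      β u = u → β = 1) :
    Cfsg.blockRank 2 (Cfsg.principalBlock M H) = 3 := by
  classical
  haveI := Fintype.ofFinite H
  haveI := Fintype.ofFinite (P : Subgroup H)
  haveI := Fintype.ofFinite (Cfsg.IrrCharacter H)
  have hmax := isMaximal_prin hM P
  have hcomm : ∀ x y : P, x * y = y * x := fun x y => by
    have hi : ∀ z : P, z⁻¹ = z := fun z =>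
      inv_eq_of_mul_eq_one_left (by rw [← pow_two, hel])
    rw [← hi (x * y), mul_inv_rev, hi, hi]
  have hab : ∀ x ∈ (P : Subgroup H), ∀ y ∈ (P : Subgroup H), x * y = y * x := fun x hx y hy =>
    congrArg Subtype.val (hcomm ⟨x, hx⟩ ⟨y, hy⟩)
  set R := inertR (P : Subgroup H) (prin M (P : Subgroup H)) with hRdef
  set B := Cfsg.principalBlock M H
  set f : P → ℂ := fun u => (lv 2 M (prin M (P : Subgroup H)) (Subgroup.zpowers (u : H)) : ℂ) /
    (Nat.card (orbS 2 M (P : Subgroup H) (prin M (P : Subgroup H)) (u : H)) : ℂ) with hf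
  set l : P → ℕ := fun u => lv 2 M (prin M (P : Subgroup H)) (Subgroup.zpowers (u : H)) with hl
  have hfV : ∀ v ∈ V, f v = l v := fun v hv => by
    rw [hf]
    simp only
    rw [card_orbS_fixed v fun β hβ => hfix β hβ v hv, Nat.cast_one, div_one]
  have hfO : ∀ u : P, u ∉ V → f u = 1 / 3 := fun u hu => by
    have h := fun β hβ hβu => hfree β hβ u hu hβu
    rw [hf]
    simp only
    rw [card_orbS_free u h, hR, lv_free hM hmax hab (freeAt_of u h), Nat.cast_one]
    norm_num
  choose pv hpv pw hpw hdec using hdec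
  have hinj : ∀ v v' w w' : P, v ∈ V → v' ∈ V → w ∈ W → w' ∈ W → v * w = v' * w' →
      v = v' ∧ w = w' := by
    intro v v' w w' hv hv' hw hw' h
    have h1 : v'⁻¹ * v = w' * w⁻¹ := by
      rw [eq_mul_inv_iff_mul_eq, mul_assoc, h, inv_mul_cancel_left]
    have h2 := hdisj _ (mul_mem (inv_mem hv') hv) (h1 ▸ mul_mem hw' (inv_mem hw))
    rw [h2] at h1
    exact ⟨(inv_mul_eq_one.1 h2).symm, (mul_inv_eq_one.1 h1.symm).symm⟩
  have huniq : ∀ v ∈ V, ∀ w ∈ W, pv (v * w) = v ∧ pw (v * w) = w := fun v hv w hw =>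
    hinj _ _ _ _ (hpv _) hv (hpw _) hw (hdec (v * w)).symm
  have hsum : ∀ g : P → ℂ, ∑ u : P, g u = ∑ v : V, ∑ w : W, g (v * w) := fun g => by
    rw [← Fintype.sum_prod_type']
    refine (Fintype.sum_equiv
      { toFun := fun z : V × W => (z.1 : P) * z.2
        invFun := fun u => (⟨pv u, hpv u⟩, ⟨pw u, hpw u⟩)
        left_inv := fun z => Prod.ext (Subtype.ext (huniq _ z.1.2 _ z.2.2).1)
          (Subtype.ext (huniq _ z.1.2 _ z.2.2).2)
        right_inv := fun u => (hdec u).symm } _ _ fun _ => rfl).symm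
  have hinner : ∀ v : V, ∑ w : W, f (v * w) = (l v : ℂ) + 1 := fun v => by
    rw [← Finset.add_sum_erase _ _ (Finset.mem_univ (1 : W)), Finset.sum_congr rfl fun (w : W) hw =>
      hfO _ fun h => (Finset.ne_of_mem_erase hw) (Subtype.ext (hdisj w
        (by simpa using mul_mem (inv_mem v.2) h) w.2)),
      Finset.sum_const, Finset.card_erase_of_mem (Finset.mem_univ _), Finset.card_univ,
      ← Nat.card_eq_fintype_card, hW, OneMemClass.coe_one, mul_one, hfV v v.2]
    norm_num
  -- the linear characters of `V`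
  let π : P →* V := MonoidHom.mk' (fun u => ⟨pv u, hpv u⟩) fun u u' => Subtype.ext (by
    have e : u * u' = pv u * pv u' * (pw u * pw u') := by
      conv_lhs => rw [hdec u, hdec u']
      rw [mul_assoc, ← mul_assoc (pw u), hcomm (pw u) (pv u'), mul_assoc, ← mul_assoc]
    show pv (u * u') = pv u * pv u'
    rw [e]
    exact (huniq _ (mul_mem (hpv u) (hpv u')) _ (mul_mem (hpw u) (hpw u'))).1)
  have hπ : ∀ β ∈ R, ∀ u, π (β u) = π u := fun β hβ u => Subtype.ext (by
    show pv (β u) = pv u
    conv_lhs => rw [hdec u, map_mul, hfix β hβ _ (hpv u)]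
    exact (huniq _ (hpv u) _ (hinv β hβ _ (hpw u))).1)
  have hl1 : ∀ a : V, a ≠ 1 → l a = l 1 := by
    intro a ha
    have hord : ∀ x : V, x ≠ 1 → orderOf x = 2 := fun x hx =>
      orderOf_eq_prime (Subtype.ext (hel x)) hx
    obtain ⟨b, hb⟩ : ∃ b : V, b ∉ ({1, a} : Finset V) := by
      by_contra h
      have := Finset.card_le_card (s := (Finset.univ : Finset V)) (t := {1, a}) fun x _ =>
        not_not.1 fun hx => h ⟨x, hx⟩
      rw [Finset.card_univ, ← Nat.card_eq_fintype_card, hV] at this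
      exact absurd (this.trans Finset.card_le_two) (by norm_num)
    simp only [Finset.mem_insert, Finset.mem_singleton, not_or] at hb
    have hsq : ∀ x : V, x * x = 1 := fun x => Subtype.ext (by
      rw [Subgroup.coe_mul, ← pow_two]; exact hel _)
    have haa := hsq a
    have hbb := hsq b
    have hab1 : a * b ≠ 1 := fun h => hb.2 (mul_left_cancel (haa.trans h.symm)).symm
    have key : ∀ c : V, c ≠ 1 → (∑ x : V, (if x ∈ Subgroup.zpowers c then (1 : ℂ) else -1) *
        ((l x : ℂ) + 1)) = 0 := by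
      intro c hc
      have hidx : (Subgroup.zpowers c).index = 2 := by
        have := (Subgroup.zpowers c).card_mul_index
        rw [Nat.card_zpowers, hord c hc, hV] at this
        omega
      let χ : V →* ℂ :=
        { toFun := fun x => if x ∈ Subgroup.zpowers c then 1 else -1
          map_one' := if_pos (one_mem _)
          map_mul' := fun x y => by
            simp only [Subgroup.mul_mem_iff_of_index_two hidx]
            by_cases hx : x ∈ Subgroup.zpowers c <;> by_cases hy : y ∈ Subgroup.zpowers c <;>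
              simp [hx, hy] }
      have hst : Stable 2 M (prin M (P : Subgroup H)) fun u => χ.comp π u :=
        stable_of_inertR hM hmax hab fun β hβ u => by simp only [MonoidHom.comp_apply, hπ β hβ]
      obtain ⟨x, hx⟩ : ∃ x : V, x ∉ Subgroup.zpowers c := by
        by_contra h
        have : Subgroup.zpowers c = ⊤ :=
          (Subgroup.eq_top_iff' _).2 fun x => not_not.1 fun hx => h ⟨x, hx⟩
        rw [this, Subgroup.index_top] at hidx
        omega
      have hπx : π (x : P) = x := Subtype.ext (by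
        show pv (x : P) = x
        have h := (huniq x x.2 1 (one_mem _)).1
        rwa [mul_one] at h)
      have hne : χ.comp π (x : P) ≠ 1 := by
        rw [MonoidHom.comp_apply, hπx]
        show (if x ∈ Subgroup.zpowers c then (1 : ℂ) else -1) ≠ 1
        rw [if_neg hx]
        norm_num
      have h := sum_linear_eq_zero hM hmax hab (χ.comp π) hst hne
      rw [hsum] at h
      rw [← h]
      refine Finset.sum_congr rfl fun y _ => ?_
      rw [← hinner y, Finset.mul_sum]
      refine Finset.sum_congr rfl fun w _ => ?_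
      have hy : π ((y : P) * w) = y := Subtype.ext (huniq y y.2 w w.2).1
      rw [MonoidHom.comp_apply, hy]
      rfl
    have hmem : ∀ c x : V, c * c = 1 → (x ∈ Subgroup.zpowers c ↔ x = 1 ∨ x = c) := by
      intro c x hcc
      rw [mem_zpowers_iff_mem_range_orderOf, Finset.mem_image]
      constructor
      · rintro ⟨n, -, rfl⟩
        rcases Nat.even_or_odd' n with ⟨m, rfl | rfl⟩
        · left; rw [pow_mul, pow_two, hcc, one_pow]
        · right; rw [pow_succ, pow_mul, pow_two, hcc, one_pow, one_mul]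
      · rintro (h | h) <;> subst h
        · exact ⟨0, Finset.mem_range.2 (orderOf_pos c), pow_zero c⟩
        · by_cases hc : x = 1
          · exact ⟨0, Finset.mem_range.2 (orderOf_pos x), by rw [pow_zero, hc]⟩
          · exact ⟨1, Finset.mem_range.2 (by rw [hord x hc]; norm_num), pow_one x⟩
    have hcc := hsq (a * b)
    have k1 := key b hb.1
    have k2 := key (a * b) hab1
    rw [four_sum hV ha hb.1 (Ne.symm hb.2) haa] at k1 k2
    simp only [hmem b _ hbb, hmem (a * b) _ hcc] at k1 k2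
    have n1 : a * b ≠ b := fun h => ha (mul_eq_right.1 h)
    have n2 : a * b ≠ a := fun h => hb.1 (mul_eq_left.1 h)
    simp [ha, hb.1, Ne.symm hb.2, hab1, n1, n2.symm, n1.symm] at k1 k2
    have e : (l (a : P) : ℂ) = (l 1 : ℂ) := by linear_combination (-(k1 + k2) / 2)
    exact_mod_cast e
  have hrank : l 1 = Cfsg.blockRank 2 B := lv_one hM hmax
  have hk : (Nat.card B : ℂ) = 4 * ((l 1 : ℂ) + 1) := by
    rw [card_eq_sum hM hmax hab, hsum, Finset.sum_congr rfl fun v _ => hinner v,
      Finset.sum_congr rfl fun (v : V) _ => show (l v : ℂ) + 1 = (l 1 : ℂ) + 1 by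
        by_cases hv : v = 1
        · rw [hv]; rfl
        · rw [hl1 v hv],
      Finset.sum_const, Finset.card_univ, ← Nat.card_eq_fintype_card, hV, nsmul_eq_mul]
    norm_num
  have hk' : Nat.card B = 4 * (l 1 + 1) := by exact_mod_cast hk
  obtain ⟨u, hu⟩ : ∃ u : P, u ∉ V := by
    by_contra h
    have : V = ⊤ := (Subgroup.eq_top_iff' _).2 fun x => not_not.1 fun hx => h ⟨x, hx⟩
    rw [this, Subgroup.card_top, hP] at hV
    norm_num at hV
  obtain ⟨d, hd0, hd2, -⟩ := exists_column hM hmax hab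
    (freeAt_of u fun β hβ h => hfree β hβ u hu h)
    (show (u : H) * u = 1 by simpa [pow_two] using congrArg Subtype.val (hel u))
  rw [hP] at hd2
  have hcard : Fintype.card {χ : Cfsg.IrrCharacter H // χ ∈ B} = Nat.card B := by
    rw [← Nat.card_eq_fintype_card]
  have hle : (Fintype.card {χ : Cfsg.IrrCharacter H // χ ∈ B} : ℤ) ≤ 16 := by
    rw [show (16 : ℤ) = ((16 : ℕ) : ℤ) from rfl, ← hd2]
    calc _ = ∑ _ : {χ : Cfsg.IrrCharacter H // χ ∈ B}, (1 : ℤ) := by simp
      _ ≤ _ := Finset.sum_le_sum fun χ _ => by have := sq_pos_iff.2 (hd0 χ); omega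
  rw [hcard] at hle
  have hpos : 0 < Cfsg.blockRank 2 B := NilpotentAbelian.blockRank_pos hM (isPBlock_principal M H)
  have hne : Cfsg.blockRank 2 B ≠ 1 := blockRank_ne_one hM hmax hab (by rw [hR]; norm_num)
  have h2 : l 1 ≠ 2 := by
    intro h2
    obtain ⟨-, hs⟩ := square_excess d hd0 (by rw [hd2, hcard, hk', h2]; norm_num)
    rw [hd2, hcard, hk', h2] at hs
    push_cast at hs
    omega
  show Cfsg.blockRank 2 B = 3
  omega

end Cfsg.Agent.Blocks.EightNine
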