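import Mathlib
import Cfsg.Agent.Lib.Blocks.EightNine.Action
import Cfsg.Agent.Lib.Blocks.EightNine.Local

/-!
# Elementary abelian Sylow 2-subgroups of order sixteen with inertial index nine

The principal block has sixteen characters and rank nine.
-/

set_option autoImplicit false
set_option linter.style.haveILetI false
set_option linter.unusedSectionVars false
set_option linter.unnecessarySeqFocus false

namespace Cfsg.Agent.Blocks.EightNine

open Cfsg.Agent.Blocks Cfsg.Agent.Blocks.Star Cfsg.Agent.Characters Cfsg.Agent.BlockCharsA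
open Cfsg.Agent.BlockCharsA.BrauerPairs Cfsg.Agent.BlockCharsA.PairConj
open Cfsg.Agent.BlockCharsA.PairLocal Cfsg.Agent.BlockCharsA.PairFusion
open Cfsg.Agent.BlockCharsA.PairPrincipal
open scoped ComplexConjugate

universe u

variable {G : Type u} [Group G] [Finite G] {M : Ideal Cfsg.AlgInt}

/-- The rank at a point of a line is three. -/
theorem lv_line (hM : Cfsg.IsPModular 2 M) (P : Sylow 2 G) (hP : Nat.card P = 16)
    (hel : ∀ x : P, x ^ 2 = 1) {V W : Subgroup P}
    (hs : Split (inertR (P : Subgroup G) (prin M (P : Subgroup G))) V W) {v : P} (hv : v ∈ V)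
    (hv1 : v ≠ 1) :
    lv 2 M (prin M (P : Subgroup G)) (Subgroup.zpowers (v : G)) = 3 := by
  classical
  haveI := Fintype.ofFinite G
  haveI := Fintype.ofFinite (Cfsg.IrrCharacter G)
  haveI : Fact (Nat.Prime 2) := ⟨Nat.prime_two⟩
  have hmax := isMaximal_prin hM P
  rw [lv_eq hM hmax (gAt_spec hM hmax v).1, gAt_prin hM hmax v]
  show Cfsg.blockRank 2 (Cfsg.principalBlock M (CU (v : G))) = 3
  have hcomm : ∀ x y : P, x * y = y * x := fun x y => by
    have hi : ∀ z : P, z⁻¹ = z := fun z =>
      inv_eq_of_mul_eq_one_left (by rw [← pow_two, hel])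
    rw [← hi (x * y), mul_inv_rev, hi, hi]
  have hPH : (P : Subgroup G) ≤ CU (v : G) := fun x hx =>
    mem_CU_of_commute (congrArg Subtype.val (hcomm v ⟨x, hx⟩))
  set P' := P.subtype hPH with hP'
  let ι : (P' : Subgroup (CU (v : G))) ≃* (P : Subgroup G) := Subgroup.subgroupOfEquivOfLe hPH
  have hι : ∀ u, ((ι u : (P : Subgroup G)) : G) = ((u : CU (v : G)) : G) := fun u => rfl
  have hc : ∀ (β : MulAut (P' : Subgroup (CU (v : G)))) u, MulAut.congr ι β (ι u) = ι (β u) :=
    fun β u => by simp [MulAut.congr]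
  set R := inertR (P : Subgroup G) (prin M (P : Subgroup G))
  set R' := inertR (P' : Subgroup (CU (v : G))) (prin M (P' : Subgroup (CU (v : G))))
  have hmem : ∀ β ∈ R', MulAut.congr ι β ∈ R ∧ MulAut.congr ι β v = v := by
    intro β hβ
    obtain ⟨t, ht, htu⟩ := inertR_exists hβ
    rw [stab_prin hM] at ht
    have htN : (t : G) ∈ stab (P : Subgroup G) (prin M (P : Subgroup G)) := by
      rw [stab_prin hM, Subgroup.mem_normalizer_iff]
      intro x
      constructor
      · intro hx
        exact (Subgroup.mem_normalizer_iff.1 ht ⟨x, hPH hx⟩).1 hx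
      · intro hx
        have hxH : x ∈ CU (v : G) := by
          have h := mul_mem (mul_mem (inv_mem t.2) (hPH hx)) t.2
          rwa [show (t : G)⁻¹ * ((t : G) * x * (t : G)⁻¹) * t = x by group] at h
        exact (Subgroup.mem_normalizer_iff.1 ht ⟨x, hxH⟩).2 hx
    have e : MulAut.congr ι β = inertAct (P : Subgroup G) _ ⟨(t : G), htN⟩ := by
      refine MulEquiv.ext fun u => ?_
      obtain ⟨u, rfl⟩ := ι.surjective u
      rw [hc]
      exact Subtype.ext (by rw [hι, htu]; rfl)
    refine ⟨e ▸ inertAct_mem htN, ?_⟩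
    rw [e]
    refine Subtype.ext ?_
    show (t : G) * (v : G) * (t : G)⁻¹ = v
    rw [← (commute_of_mem_CU t.2).eq, mul_inv_cancel_right]
  have hsurj : ∀ γ ∈ R, γ v = v → ∃ β ∈ R', MulAut.congr ι β = γ := by
    intro γ hγ hγv
    obtain ⟨t, ht, htu⟩ := inertR_exists hγ
    have htC : t ∈ CU (v : G) := mem_CU_of_commute (by
      have h := htu v
      rw [hγv] at h
      show (v : G) * t = t * v
      conv_lhs => rw [h]
      group)
    have htN : (⟨t, htC⟩ : CU (v : G)) ∈
        stab (P' : Subgroup (CU (v : G))) (prin M (P' : Subgroup (CU (v : G)))) := by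
      rw [stab_prin hM] at ht ⊢
      exact Subgroup.mem_normalizer_iff.2 fun x => Subgroup.mem_normalizer_iff.1 ht (x : G)
    refine ⟨inertAct _ _ ⟨⟨t, htC⟩, htN⟩, inertAct_mem htN, MulEquiv.ext fun u => ?_⟩
    obtain ⟨u, rfl⟩ := ι.surjective u
    rw [hc]
    exact Subtype.ext (by rw [htu, hι, hι]; rfl)
  have hcardR' : Nat.card R' = 3 := by
    rw [← hs.left.stab v hv hv1]
    refine Nat.card_congr (Equiv.ofBijective
      (fun β => ⟨⟨MulAut.congr ι β, (hmem β β.2).1⟩,
        MulAction.mem_stabilizer_iff.2 (hmem β β.2).2⟩) ⟨fun a b h => ?_, fun γ => ?_⟩)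
    · exact Subtype.ext ((MulAut.congr ι).injective (congrArg (fun z => (z.1 : MulAut P)) h))
    · obtain ⟨β, hβ, e⟩ := hsurj _ γ.1.2 (MulAction.mem_stabilizer_iff.1 γ.2)
      exact ⟨⟨β, hβ⟩, Subtype.ext (Subtype.ext e)⟩
  have hcard : ∀ U : Subgroup (P : Subgroup G), Nat.card (U.comap ι.toMonoidHom) = Nat.card U :=
    fun U => Nat.card_congr (ι.toEquiv.subtypeEquiv fun x => Iff.rfl)
  refine rank_eq_three hM P' ((Nat.card_congr ι.toEquiv).trans hP) (fun x => ?_)
    (V := V.comap ι.toMonoidHom) (W := W.comap ι.toMonoidHom) ((hcard V).trans hs.left.card)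
    ((hcard W).trans hs.right.card) (fun u => ?_) (fun u hu hu' => ?_) hcardR'
    (fun β hβ u hu => ι.injective ?_) (fun β hβ u hu => ?_) (fun β hβ u hu hβu => ?_)
  · apply ι.injective
    rw [map_pow, map_one]
    exact hel (ι x)
  · obtain ⟨a, ha, b, hb, e⟩ := hs.decomp (ι u)
    exact ⟨ι.symm a, by simpa using ha, ι.symm b, by simpa using hb,
      ι.injective (by rw [e, map_mul]; simp)⟩
  · exact ι.injective ((hs.disj _ hu hu').trans (map_one ι).symm)
  · rw [← hc]
    exact hs.left.fixes _ (hmem β hβ).1 v hv hv1 (hmem β hβ).2 _ hu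
  · show ι (β u) ∈ W
    rw [← hc]
    exact hs.right.inv _ (hmem β hβ).1 _ hu
  · refine (MulAut.congr ι).injective ((hs.left.sep _ (hmem β hβ).1 v hv hv1 (hmem β hβ).2 _ hu
      ?_).trans (map_one _).symm)
    exact (hc β u).trans (congrArg ι hβu)

/-- The principal block has sixteen characters and rank nine. -/
theorem card_and_rank (hM : Cfsg.IsPModular 2 M) (P : Sylow 2 G) (hP : Nat.card P = 16)
    (hel : ∀ x : P, x ^ 2 = 1)
    (he : Nat.card (inertR (P : Subgroup G) (prin M (P : Subgroup G))) = 9) :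
    Nat.card (Cfsg.principalBlock M G) = 16 ∧
      Cfsg.blockRank 2 (Cfsg.principalBlock M G) = 9 := by
  classical
  haveI := Fintype.ofFinite G
  haveI := Fintype.ofFinite (P : Subgroup G)
  haveI := Fintype.ofFinite (Cfsg.IrrCharacter G)
  haveI : Fact (Nat.Prime 2) := ⟨Nat.prime_two⟩
  have hmax := isMaximal_prin hM P
  set e := prin M (P : Subgroup G)
  set B := Cfsg.principalBlock M G
  replace hP : Nat.card (P : Subgroup G) = 16 := hP
  have hi : ∀ z : ↥(P : Subgroup G), z⁻¹ = z := fun z => inv_eq_of_mul_eq_one_left (by rw [← pow_two, hel])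
  have hcomm : ∀ x y : ↥(P : Subgroup G), x * y = y * x := fun x y => by
    rw [← hi (x * y), mul_inv_rev, hi, hi]
  have hab : ∀ x ∈ (P : Subgroup G), ∀ y ∈ (P : Subgroup G), x * y = y * x := fun x hx y hy =>
    congrArg Subtype.val (hcomm ⟨x, hx⟩ ⟨y, hy⟩)
  obtain ⟨V, W, hs⟩ := exists_split hP hel he
  have hs' := hs.symm hcomm
  set R := inertR (P : Subgroup G) e
  set l := Cfsg.blockRank 2 B with hl
  -- the local data
  set f : ↥(P : Subgroup G) → ℂ := fun u => (lv 2 M e (Subgroup.zpowers (u : G)) : ℂ) /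
    (Nat.card (orbS 2 M (P : Subgroup G) e (u : G)) : ℂ)
  have hfline : ∀ (V W : Subgroup ↥(P : Subgroup G)), Split R V W → ∀ u ∈ V, u ≠ 1 → f u = 1 := by
    intro V W hs u hu hu1
    have h := card_orbS_mul (p := 2) (M := M) (e := e) u
    rw [he, hs.left.stab u hu hu1] at h
    simp only [f]
    rw [lv_line hM P hP hel hs hu hu1, show Nat.card (orbS 2 M (P : Subgroup G) e (u : G)) = 3
      by omega]
    norm_num
  have hf1 : f 1 = l := by
    simp only [f]
    rw [card_orbS_fixed (1 : ↥(P : Subgroup G)) fun β _ => map_one β, Nat.cast_one, div_one, lv_one hM hmax]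
  have hffree : ∀ u, u ∉ V → u ∉ W → f u = 1 / 9 := fun u hu hu' => by
    have h := hs.free u hu hu'
    simp only [f]
    rw [card_orbS_free u h, he, lv_free hM hmax hab (freeAt_of u h), Nat.cast_one]
    norm_num
  have hcardf : ∀ U : Subgroup ↥(P : Subgroup G), (Finset.univ.filter (· ∈ U)).card = Nat.card U := fun U => by
    rw [Nat.card_eq_fintype_card, Fintype.card_subtype]
  have hF : (Finset.univ.filter fun u : ↥(P : Subgroup G) => u ∉ V ∧ u ∉ W).card = 9 := by
    have h1 := Finset.card_union_add_card_inter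
      (Finset.univ.filter (· ∈ V)) (Finset.univ.filter (· ∈ W))
    rw [hcardf, hcardf, hs.left.card, hs.right.card,
      show Finset.univ.filter (· ∈ V) ∩ Finset.univ.filter (· ∈ W) = ({1} : Finset ↥(P : Subgroup G)) by
        ext u
        simp only [Finset.mem_inter, Finset.mem_filter, Finset.mem_univ, true_and,
          Finset.mem_singleton]
        exact ⟨fun h => hs.disj u h.1 h.2, fun h => by rw [h]; exact ⟨one_mem _, one_mem _⟩⟩,
      Finset.card_singleton] at h1
    rw [show (Finset.univ.filter fun u : ↥(P : Subgroup G) => u ∉ V ∧ u ∉ W) =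
        (Finset.univ.filter (· ∈ V) ∪ Finset.univ.filter (· ∈ W))ᶜ by ext u; simp,
      Finset.card_compl, ← Nat.card_eq_fintype_card, hP]
    omega
  have hne : ∀ U : Subgroup ↥(P : Subgroup G), Nat.card U = 4 → ∃ u ∈ U, u ≠ 1 := fun U hU => by
    have : U ≠ ⊥ := fun h => by rw [h, Subgroup.card_bot] at hU; norm_num at hU
    exact (Subgroup.bot_or_exists_ne_one U).resolve_left this
  obtain ⟨a, ha, ha1⟩ := hne V hs.left.card
  obtain ⟨b, hb, hb1⟩ := hne W hs.right.card
  set v := a * b
  have hvV : v ∉ V := fun h => hb1 (hs.disj b (by simpa [v] using mul_mem (inv_mem ha) h) hb)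
  have hvW : v ∉ W := fun h => ha1 (hs.disj a ha (by simpa [v] using mul_mem h (inv_mem hb)))
  have hv := freeAt_of v (hs.free v hvV hvW)
  -- the free elements form one orbit
  set χF : ↥(P : Subgroup G) → ℂ := fun u => if u ∉ V ∧ u ∉ W then 1 else 0
  have hinv : ∀ (U : Subgroup ↥(P : Subgroup G)), Line R U → ∀ β ∈ R, ∀ u, (β u ∈ U ↔ u ∈ U) := by
    intro U hU β hβ u
    refine ⟨fun h => ?_, hU.inv β hβ u⟩
    have := hU.inv β⁻¹ (inv_mem hβ) _ h
    rwa [show β⁻¹ (β u) = u from β.symm_apply_apply u] at this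
  have hind : orbInd 2 M e v = χF := by
    have horb : ∀ u : ↥(P : Subgroup G), (u : G) ∈ orbS 2 M (P : Subgroup G) e (v : G) ↔ ∃ β ∈ R, β v = u := by
      intro u
      constructor
      · rintro ⟨t, ht, hu⟩
        exact ⟨_, inertAct_mem ht, Subtype.ext hu.symm⟩
      · rintro ⟨β, hβ, rfl⟩
        obtain ⟨t, ht, htu⟩ := inertR_exists hβ
        exact ⟨t, ht, htu v⟩
    have himg : (Finset.univ.image fun β : R => (β : MulAut P) v) =
        Finset.univ.filter fun u : ↥(P : Subgroup G) => u ∉ V ∧ u ∉ W := by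
      refine Finset.eq_of_subset_of_card_le (fun u hu => ?_) ?_
      · obtain ⟨β, -, rfl⟩ := Finset.mem_image.1 hu
        simp only [Finset.mem_filter, Finset.mem_univ, true_and]
        exact ⟨fun h => hvV ((hinv V hs.left β β.2 v).1 h),
          fun h => hvW ((hinv W hs.right β β.2 v).1 h)⟩
      · rw [hF, Finset.card_image_of_injective _ fun β γ h => ?_, Finset.card_univ,
          ← Nat.card_eq_fintype_card, he]
        refine Subtype.ext (inv_mul_eq_one.1 (hs.free v hvV hvW _
          (mul_mem (inv_mem β.2) γ.2) ?_))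
        rw [MulAut.mul_apply, show (γ : MulAut P) v = (β : MulAut P) v from h.symm]
        exact (β : MulAut P).symm_apply_apply v
    funext u
    refine if_congr ((horb u).trans ?_) rfl rfl
    rw [show (u ∉ V ∧ u ∉ W) ↔ u ∈ Finset.univ.filter (fun u : ↥(P : Subgroup G) => u ∉ V ∧ u ∉ W) by simp,
      ← himg, Finset.mem_image]
    exact ⟨fun ⟨β, hβ, h⟩ => ⟨⟨β, hβ⟩, Finset.mem_univ _, h⟩, fun ⟨β, _, h⟩ => ⟨β, β.2, h⟩⟩
  -- the weights
  let off : Subgroup ↥(P : Subgroup G) → ↥(P : Subgroup G) → ℂ := fun U u => if u ∈ U then 0 else 4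
  have hoff : ∀ U, Line R U → Stable 2 M e (off U) := fun U hU =>
    stable_of_inertR hM hmax hab fun β hβ u => by simp only [off, hinv U hU β hβ u]
  have hgen : ∀ U : Subgroup ↥(P : Subgroup G), Nat.card U = 4 →
      Cfsg.IsGeneralizedCharacter (P : Subgroup G) (off U) := fun U hU => by
    refine gen_of_linear_sums hcomm fun μ => ?_
    refine ⟨(if μ = 1 then 4 else 0) - (if μ.comp U.subtype = 1 then 1 else 0), ?_⟩
    have h1 : ∑ u, off U u * μ u = 4 * ∑ u, μ u - 4 * ∑ u : U, μ.comp U.subtype u := by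
      simp only [MonoidHom.comp_apply, Subgroup.coe_subtype]
      rw [← Finset.sum_subtype (Finset.univ.filter (· ∈ U)) (p := (· ∈ U)) (fun x => by simp)
          (fun u => μ u), Finset.sum_filter, Finset.mul_sum, Finset.mul_sum,
        ← Finset.sum_sub_distrib]
      refine Finset.sum_congr rfl fun u _ => ?_
      simp only [off]
      split <;> ring
    rw [h1, sum_hom_units μ, sum_hom_units (μ.comp U.subtype), ← Nat.card_eq_fintype_card,
      ← Nat.card_eq_fintype_card, hP, hU]
    split_ifs <;> push_cast <;> ring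
  have hre : ∀ U u, conj (off U u) = off U u := fun U u => by
    simp only [off]; split <;> simp [map_ofNat]
  have hχ : ∀ u, conj (χF u) = χF u := fun u => by simp only [χF]; split <;> simp
  have hstχ : Stable 2 M e χF := hind ▸ stable_orbInd hM hmax hab v
  have hscale : ∀ (c : ℂ) {η : ↥(P : Subgroup G) → ℂ}, Stable 2 M e η → ∀ (χ : Cfsg.IrrCharacter G)
      {ψ : Cfsg.IrrCharacter G}, ψ ∈ B → phi e hM (fun u => c * η u) (χ : G → ℂ) (ψ : G → ℂ) =
        c * phi e hM η (χ : G → ℂ) (ψ : G → ℂ) := fun c η hη χ ψ hψ => by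
    rw [phi_eq hM hmax (fun x y g hg hg' => by simp only [hη x y g hg hg']) hψ,
      phi_eq hM hmax hη hψ, Finset.mul_sum]
    exact Finset.sum_congr rfl fun u _ => mul_assoc _ _ _
  obtain ⟨d, hd0, hd2, hd⟩ := exists_column hM hmax hab hv
    (show (v : G) * v = 1 by simpa [pow_two] using congrArg Subtype.val (hel v))
  rw [hP] at hd2
  have hD : ∀ χ ψ : {χ : Cfsg.IrrCharacter G // χ ∈ B},
      16 * phi e hM χF (χ.1 : G → ℂ) (ψ.1 : G → ℂ) = (d χ : ℂ) * (d ψ : ℂ) := fun χ ψ => by
    have h := phi_orbInd hM hmax hab hv (χ := χ.1) ψ.2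
    rw [hind, hP, hd, hd, map_intCast] at h
    exact_mod_cast h
  have hsub : ∀ g : Cfsg.IrrCharacter G → ℂ, ∑ χ ∈ Finset.univ.filter (· ∈ B), g χ =
      ∑ χ : {χ : Cfsg.IrrCharacter G // χ ∈ B}, g χ.1 := fun g =>
    Finset.sum_subtype _ (fun χ => by simp) g
  -- sums against the local ranks
  have hfsum : ∀ u, f u = (if u = 1 then (l : ℂ) - 2 else 0) + (if u ∈ V then 1 else 0) +
      (if u ∈ W then 1 else 0) + 1 / 9 * χF u := fun u => by
    by_cases h1 : u = 1
    · subst h1
      simp [χF, hf1, one_mem]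
      ring
    by_cases hV : u ∈ V
    · have : u ∉ W := fun h => h1 (hs.disj u hV h)
      simp [χF, h1, hV, this, hfline V W hs u hV h1]
    by_cases hW : u ∈ W
    · simp [χF, h1, hV, hW, hfline W V hs' u hW h1]
    · simp [χF, h1, hV, hW, hffree u hV hW]
  have hsumU : ∀ U : Subgroup ↥(P : Subgroup G), ∑ u : ↥(P : Subgroup G), (if u ∈ U then (1 : ℂ) else 0) = Nat.card U := fun U => by
    rw [Finset.sum_boole, hcardf]
  have hsumF : ∑ u : ↥(P : Subgroup G), χF u = 9 := by
    simp only [χF]; rw [Finset.sum_boole, hF]; norm_num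
  have hk : (Nat.card B : ℂ) = (l : ℂ) + 7 := by
    rw [card_eq_sum hM hmax hab, Finset.sum_congr rfl fun u _ => hfsum u]
    simp only [Finset.sum_add_distrib, ← Finset.mul_sum, hsumU, hsumF, Finset.sum_ite_eq',
      Finset.mem_univ, if_true, hs.left.card, hs.right.card]
    norm_num
    ring
  have hk' : Nat.card B = l + 7 := by exact_mod_cast hk
  choose Y hY using fun (U : {U : Subgroup ↥(P : Subgroup G) // Line R U})
    (χ ψ : {χ : Cfsg.IrrCharacter G // χ ∈ B}) =>
    phi_int hM hmax (hgen U.1 U.2.card) (hoff U.1 U.2) χ.1 ψ.1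
  have hsymm : ∀ U χ ψ, Y U χ ψ = Y U ψ χ := fun U χ ψ => by
    have h := phi_swap hM hmax (hoff U.1 U.2) (hre U.1) χ.2 ψ.2
    rw [hY, hY, map_intCast] at h
    exact_mod_cast h.symm
  have hprod : ∀ (U U' : {U : Subgroup ↥(P : Subgroup G) // Line R U}) χ ψ,
      phi e hM (off U.1 * off U'.1) (χ : {χ : Cfsg.IrrCharacter G // χ ∈ B}).1
        ((ψ : {χ : Cfsg.IrrCharacter G // χ ∈ B}).1 : G → ℂ) =
      ((∑ m, Y U χ m * Y U' ψ m : ℤ) : ℂ) := fun U U' χ ψ => by
    rw [← phi_mul hM hmax (hoff _ U.2) (hoff _ U'.2) (hre _) ψ.2, hsub, Int.cast_sum]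
    refine Finset.sum_congr rfl fun m _ => ?_
    rw [hY, hY, hsymm U' m ψ, Int.cast_mul]
  have hproj : ∀ (U U' : Subgroup ↥(P : Subgroup G)) (hUU : Split R U U'),
      Proj d (Y ⟨U', hUU.right⟩) := by
    intro U U' hUU
    refine ⟨hsymm _, fun χ ψ => ?_, fun χ => ?_, ?_⟩
    · have e1 : off U' * off U' = fun u => 4 * off U' u := funext fun u => by
        simp only [Pi.mul_apply, off]; split <;> ring
      have h := hprod ⟨U', hUU.right⟩ ⟨U', hUU.right⟩ χ ψ
      rw [e1, hscale 4 (hoff _ hUU.right) χ.1 ψ.2, hY ⟨U', hUU.right⟩ χ ψ] at h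
      exact_mod_cast h.symm
    · have e1 : off U' * χF = fun u => 4 * χF u := funext fun u => by
        simp only [Pi.mul_apply, off, χF]
        by_cases h : u ∈ U'
        · have : ¬ (u ∉ V ∧ u ∉ W) := by
            intro hu
            have hx : orbInd 2 M e v u = 1 := by rw [hind]; exact if_pos hu
            simp only [orbInd] at hx
            split at hx
            · rename_i hmem
              obtain ⟨t, ht, htu⟩ := hmem
              have hβ := inertAct_mem ht
              have e2 : inertAct _ _ ⟨t, ht⟩ v = u := Subtype.ext htu.symm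
              have := (hinv U' hUU.right _ hβ v).1 (e2 ▸ h)
              have hone : ∀ β ∈ R, β v = v → β = 1 := hs.free v hvV hvW
              have h3 := hUU.right.stab v this fun h1 => hvV (h1 ▸ one_mem _)
              rw [show MulAction.stabilizer R v = ⊥ from (Subgroup.eq_bot_iff_forall _).2
                fun β hβ => Subtype.ext (hone β β.2 hβ), Subgroup.card_bot] at h3
              omega
            · exact zero_ne_one hx
          simp [h, this]
        · simp [h]
      have h := phi_mul hM hmax (hoff _ hUU.right) hstχ hχ (χ := χ.1) χ.2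
      rw [e1, hscale 4 hstχ χ.1 χ.2, hsub] at h
      have h' := congrArg (16 * ·) h
      simp only [Finset.mul_sum] at h'
      rw [Finset.sum_congr rfl fun m _ => show (16 : ℂ) *
          (phi e hM (off U') (χ.1 : G → ℂ) (m.1 : G → ℂ) *
            phi e hM χF (m.1 : G → ℂ) (χ.1 : G → ℂ)) =
          ((Y ⟨U', hUU.right⟩ χ m * d m * d χ : ℤ) : ℂ) by
        rw [mul_left_comm, hD, hY ⟨U', hUU.right⟩ χ m]; push_cast; ring,
        mul_left_comm, hD] at h'
      have h2 : (∑ m, Y ⟨U', hUU.right⟩ χ m * d m) * d χ = 4 * d χ * d χ := by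
        rw [Finset.sum_mul]
        apply Int.cast_injective (α := ℂ)
        rw [Int.cast_sum, h']
        push_cast
        ring
      exact mul_right_cancel₀ (hd0 χ) h2
    · apply Int.cast_injective (α := ℂ)
      rw [Int.cast_sum, Finset.sum_congr rfl fun χ _ => (hY ⟨U', hUU.right⟩ χ χ).symm,
        ← hsub fun χ => phi e hM (off U') (χ : G → ℂ) (χ : G → ℂ),
        phi_trace hM hmax hab (hoff _ hUU.right)]
      have hval : ∀ u : ↥(P : Subgroup G), off U' u * f u =
          4 * ((if u ∈ U then 1 else 0) - (if u = 1 then 1 else 0)) +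
            4 / 9 * (if u ∉ U ∧ u ∉ U' then 1 else 0) := fun u => by
        by_cases h1 : u = 1
        · subst h1; simp [off, one_mem]
        by_cases hu' : u ∈ U'
        · have : u ∉ U := fun h => h1 (hUU.disj u h hu')
          simp [off, h1, hu', this]
        by_cases hu : u ∈ U
        · simp [off, h1, hu, hu', hfline U U' hUU u hu h1]
        · have h := hUU.free u hu hu'
          have : f u = 1 / 9 := by
            simp only [f]
            rw [card_orbS_free u h, he, lv_free hM hmax hab (freeAt_of u h), Nat.cast_one]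
            norm_num
          simp [off, h1, hu, hu', this]
          ring
      rw [Finset.sum_congr rfl fun u _ => hval u]
      simp only [Finset.sum_add_distrib, ← Finset.mul_sum, Finset.sum_sub_distrib, hsumU,
        Finset.sum_ite_eq', Finset.mem_univ, if_true, hUU.left.card]
      have h9 : ∑ u : ↥(P : Subgroup G), (if u ∉ U ∧ u ∉ U' then (1 : ℂ) else 0) = 9 := by
        have e2 : ∀ u : ↥(P : Subgroup G), (if u ∉ U ∧ u ∉ U' then (1 : ℂ) else 0) =
            1 + (if u = 1 then 1 else 0) - (if u ∈ U then 1 else 0) -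
              (if u ∈ U' then 1 else 0) := fun u => by
          by_cases h1 : u = 1
          · subst h1; simp [one_mem]
          by_cases hu : u ∈ U
          · have : u ∉ U' := fun h => h1 (hUU.disj u hu h)
            simp [h1, hu, this]
          by_cases hu' : u ∈ U' <;> simp [h1, hu, hu']
        simp only [e2, Finset.sum_sub_distrib, Finset.sum_add_distrib, hsumU, Finset.sum_ite_eq',
          Finset.mem_univ, if_true, Finset.sum_const, Finset.card_univ, ← Nat.card_eq_fintype_card,
          hP, hUU.left.card, hUU.right.card]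
        norm_num
      rw [h9]
      norm_num
  have hYZ : ∀ χ, ∑ m, Y ⟨W, hs.right⟩ χ m * Y ⟨V, hs.left⟩ χ m = d χ ^ 2 := fun χ => by
    have e1 : off W * off V = fun u => 16 * χF u := funext fun u => by
      simp only [Pi.mul_apply, off, χF]
      by_cases h : u ∈ W <;> by_cases h' : u ∈ V <;> simp [h, h'] <;> norm_num
    have h := hprod ⟨W, hs.right⟩ ⟨V, hs.left⟩ χ χ
    rw [e1, hscale 16 hstχ χ.1 χ.2, hD, ← Int.cast_mul] at h
    rw [pow_two]
    exact_mod_cast h.symm
  have hne1 : l ≠ 1 := blockRank_ne_one hM hmax hab (by rw [he]; norm_num)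
  have hpos : 0 < l := NilpotentAbelian.blockRank_pos hM (isPBlock_principal M G)
  have hcard : Fintype.card {χ : Cfsg.IrrCharacter G // χ ∈ B} = Nat.card B := by
    rw [← Nat.card_eq_fintype_card]
  have h16 := card_eq_sixteen hd0 (by rw [hd2]; norm_num) (by omega) (hproj V W hs)
    (hproj W V hs') hYZ
  omega

end Cfsg.Agent.Blocks.EightNine
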